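import Cfsg.Agent.JFourCent.StageTwo
import Cfsg.Agent.JFourAmalgam.Endgame

/-!
# Every involution is conjugate into the elementary abelian subgroup
-/

set_option autoImplicit false

namespace CfsgLib.JFourCent

open Cfsg CfsgLib.JFourEleven

universe u

/-- Every involution of a simple group of Janko-four type is conjugate into `A`. -/
theorem exists_mem_A {G : Type*} [Group G] [Finite G] [IsSimpleGroup G] (hG : ¬ IsMulCommutative G)
    {z : G} (L : Setting z) {x : G} (hx : orderOf x = 2) : ∃ a ∈ L.A, IsConj a x := by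
  have hx1 : x ≠ 1 := fun e => by simp [e] at hx
  have hx2 : x * x = 1 := by rw [← pow_two, ← hx, pow_orderOf_eq_one]
  by_cases hz : IsConj z x
  · exact ⟨z, L.z_A, hz⟩
  have hP : IsPGroup 2 (Subgroup.zpowers x) :=
    IsPGroup.of_card (n := 1) (by rw [Nat.card_zpowers, hx]; norm_num)
  obtain ⟨g, hg⟩ := exists_conj_normalizer L hP
  have hy := hg x (Subgroup.mem_zpowers x)
  set y := g * x * g⁻¹ with hyd
  have hxy : IsConj x y := isConj_iff.2 ⟨g, rfl⟩
  by_cases hA : y ∈ L.A
  · exact ⟨y, hA, hxy.symm⟩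
  have hy2 : y * y = 1 := by
    rw [hyd, show g * x * g⁻¹ * (g * x * g⁻¹) = g * (x * x) * g⁻¹ by group, hx2]; group
  obtain ⟨k, hk⟩ := exists_conj_E L hG hy hy2 hA
  set w := k * y * k⁻¹ with hwd
  have hxw : IsConj x w := hxy.trans (isConj_iff.2 ⟨k, rfl⟩)
  obtain ⟨m, hm⟩ := exists_conj_A L hG hk (by
      rw [hwd, show k * y * k⁻¹ * (k * y * k⁻¹) = k * (y * y) * k⁻¹ by group, hy2]; group)
    (fun e => hx1 (isConj_one_right.1 (e ▸ hxw.symm)))
    (fun e => hz (e.trans hxw.symm))
  exact ⟨m * w * m⁻¹, hm, (hxw.trans (isConj_iff.2 ⟨m, rfl⟩)).symm⟩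

/-- The class fact used by the endgame of the recognition. -/
theorem classFact : CfsgLib.JFourAmalgam.Endgame.ClassFact.{u} :=
  fun X _ _ _ hX _ L x hx => exists_mem_A (G := X) hX L hx

end CfsgLib.JFourCent
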