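import Cfsg.Agent.JFourEleven.Complement

/-!
# The extraspecial subgroup inside the normaliser of the elementary abelian subgroup

Every 2-subgroup is conjugate into the normaliser; a complement `K` meets the product of the two
subgroups inside the extraspecial one.
-/

set_option autoImplicit false
set_option linter.style.haveILetI false
set_option linter.unusedSectionVars false

namespace CfsgLib.JFourCent

open Cfsg CfsgLib.JFourType CfsgLib.JFourEleven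

variable {G : Type*} [Group G] [Finite G] {z : G} (L : Setting z)

/-- Every 2-subgroup is conjugate into the normaliser of `A`. -/
theorem exists_conj_normalizer {S : Subgroup G} (hS : IsPGroup 2 S) :
    ∃ g : G, ∀ y ∈ S, g * y * g⁻¹ ∈ Subgroup.normalizer (L.A : Set G) := by
  haveI : Fact (Nat.Prime 2) := ⟨Nat.prime_two⟩
  obtain ⟨T₀, hT₀⟩ := hS.exists_le_sylow
  obtain ⟨T, hT⟩ := (IsPGroup.of_card L.card_A : IsPGroup 2 L.A).exists_le_sylow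
  obtain ⟨g, hg⟩ := MulAction.exists_smul_eq G T₀ T
  refine ⟨g, fun y hy => ?_⟩
  have hy' : g * y * g⁻¹ ∈ (T : Subgroup G) := by
    rw [← hg]
    exact ⟨y, hT₀ hy, rfl⟩
  set w := g * y * g⁻¹ with hw
  refine Subgroup.mem_normalizer_fintype fun a ha => ?_
  have e : L.A.map (MulAut.conj w).toMonoidHom = L.A := by
    refine L.eq_of_le_pGroup T.2 hT ?_ (isElementaryAbelian_of_sq ?_) ?_
    · rintro _ ⟨b, hb, rfl⟩
      exact mul_mem (mul_mem hy' (hT hb)) (inv_mem hy')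
    · rintro _ ⟨b, hb, rfl⟩
      show MulAut.conj w b * MulAut.conj w b = 1
      rw [← map_mul, L.A_sq hb, map_one]
    · rw [Subgroup.card_map_of_injective (MulAut.conj w).injective, L.card_A]
  exact e ▸ (⟨a, ha, rfl⟩ : w * a * w⁻¹ ∈ L.A.map (MulAut.conj w).toMonoidHom)

theorem conj_E {h e : G} (hh : h ∈ L.H) (he : e ∈ L.E) : h * e * h⁻¹ ∈ L.E := by
  obtain ⟨b, hb, rfl⟩ := he
  exact ⟨⟨h, hh⟩ * b * ⟨h, hh⟩⁻¹, L.C.normal _ _ hb, rfl⟩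

/-- `[A, E]` lies in `E`. -/
theorem comm_A_E {a e : G} (ha : a ∈ L.A) (he : e ∈ L.E) : e * a * e⁻¹ * a⁻¹ ∈ L.E := by
  rw [show e * a * e⁻¹ * a⁻¹ = e * (a * e⁻¹ * a⁻¹) by group]
  exact mul_mem he (conj_E L (L.A_le_H ha) (inv_mem he))

theorem E_sq {e : G} (he : e ∈ L.E) : e * e = 1 ∨ e * e = z := by
  obtain ⟨b, hb, rfl⟩ := he
  rcases L.C.sq b hb with h | h
  · exact Or.inl (congrArg Subtype.val h)
  · exact Or.inr ((congrArg Subtype.val h).trans L.Cz)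

theorem E_comm {e f : G} (he : e ∈ L.E) (hf : f ∈ L.E) : e * f = f * e ∨ e * f = z * (f * e) := by
  obtain ⟨a, ha, rfl⟩ := he
  obtain ⟨b, hb, rfl⟩ := hf
  rcases L.C.comm a ha b hb with h | h
  · exact Or.inl (congrArg Subtype.val h)
  · refine Or.inr ((congrArg Subtype.val h).trans ?_)
    rw [Subgroup.coe_mul, Subgroup.coe_mul, L.Cz]
    rfl

/-- Whatever of `E` commutes with `A ⊓ E` lies in it. -/
theorem mem_A_of_comm {e : G} (he : e ∈ L.E) (h : ∀ w ∈ L.A ⊓ L.E, e * w = w * e) : e ∈ L.A := by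
  obtain ⟨b, hb, rfl⟩ := he
  refine L.mem_A.2 (L.D.Wt_le_R ⟨hb, ?_⟩)
  rw [← L.D.orth_W, L.D.orth_mem]
  intro u hu
  obtain ⟨w, hw, rfl⟩ := L.D.surj u
  refine (L.D.B_ψ w hw b hb).2 (Subtype.ext ?_)
  exact (h w (L.inf_eq.symm ▸ ⟨w, ⟨hw, hu⟩, rfl⟩)).symm

theorem x_mem_normalizer : (L.C.x : G) ∈ Subgroup.normalizer (L.A : Set G) :=
  L.mem_normalizer_iff.2 (L.D.lift_normalizer_R (d := 1)
    ⟨L.C.x_CP, by rw [MonoidHom.mem_ker.1 (L.C.P_le L.C.x_mem), map_one]⟩ (one_mem _))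

/-- `C.x` is trivial on `A` modulo `A ⊓ E`. -/
theorem comm_x_A {a : G} (ha : a ∈ L.A) : (L.C.x : G) * a * (L.C.x : G)⁻¹ * a⁻¹ ∈ L.E := by
  obtain ⟨r, ⟨w, hw, c, ⟨m, -, hl, -⟩, rfl⟩, rfl⟩ := ha
  have hxc : L.C.x * c = c * L.C.x := L.C.mem_CP_x.1 hl.1
  refine ⟨L.C.x * w * L.C.x⁻¹ * w⁻¹, mul_mem (L.C.normal _ _ hw.1) (inv_mem hw.1), ?_⟩
  show ((L.C.x * w * L.C.x⁻¹ * w⁻¹ : L.H) : G) =
    (L.C.x : G) * ((w * c : L.H) : G) * (L.C.x : G)⁻¹ * ((w * c : L.H) : G)⁻¹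
  rw [← Subgroup.coe_inv, ← Subgroup.coe_inv, ← Subgroup.coe_mul, ← Subgroup.coe_mul,
    ← Subgroup.coe_mul]
  congr 1
  rw [show L.C.x * (w * c) * L.C.x⁻¹ * (w * c)⁻¹ = L.C.x * w * L.C.x⁻¹ * ((L.C.x * c) * L.C.x⁻¹ * c⁻¹) * w⁻¹
    by group, hxc, mul_inv_cancel_right, mul_inv_cancel, mul_one]

/-- An element of `E` centralised modulo `A` by `C.x` lies in `A`. -/
theorem mem_A_of_comm_x {e : G} (he : e ∈ L.E)
    (h : (L.C.x : G) * e * (L.C.x : G)⁻¹ * e⁻¹ ∈ L.A) : e ∈ L.A := by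
  obtain ⟨b, hb, rfl⟩ := he
  have hx : ((L.C.x * b * L.C.x⁻¹ * b⁻¹ : L.H) : G) ∈ L.A := h
  have hW := L.D.mem_Wt_of_ker (L.mem_A.1 hx)
    (L.C.E_le (mul_mem (L.C.normal _ _ hb) (inv_mem hb)))
  have hψ : L.D.ψ (L.C.x * b * L.C.x⁻¹ * b⁻¹) + L.D.ψ b = L.D.ρ L.C.x (L.D.ψ b) := by
    rw [← L.D.mul _ (mul_mem (L.C.normal _ _ hb) (inv_mem hb)) _ hb, inv_mul_cancel_right,
      ← L.D.ρ_ψ _ _ hb]
  refine L.mem_A.2 (L.D.Wt_le_R ⟨hb, ?_⟩)
  set v := L.D.ψ b with hv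
  set w := L.D.ψ (L.C.x * b * L.C.x⁻¹ * b⁻¹) with hw
  have e1 : L.D.ρ L.C.x v + L.D.ρ L.C.x (L.D.ρ L.C.x v) = v := by
    have := L.D.x_sum v
    rw [add_assoc] at this
    exact (eq_neg_of_add_eq_zero_right this).trans (neg_eq_of_add_eq_zero_right (add_self' v))
  have e2 : L.D.ρ L.C.x w + L.D.ρ L.C.x v = L.D.ρ L.C.x (L.D.ρ L.C.x v) := by rw [← map_add, hψ]
  have : v = L.D.ρ L.C.x w := by
    rw [← e1, ← e2, add_left_comm, add_self', add_zero]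
  rw [this]
  exact L.D.fixB_x hW.2

section complement

variable {K : Subgroup G} (hKN : K ≤ Subgroup.normalizer (L.A : Set G))
  (hsup : K ⊔ L.A = Subgroup.normalizer (L.A : Set G))
include hKN hsup

theorem decomp {n : G} (hn : n ∈ Subgroup.normalizer (L.A : Set G)) :
    ∃ a ∈ L.A, ∃ k ∈ K, a * k = n := by
  have hn' : n ∈ ((L.A ⊔ K : Subgroup G) : Set G) := by
    rw [sup_comm]; exact hsup.symm ▸ hn
  rw [Subgroup.coe_mul_of_right_le_normalizer_left L.A K hKN] at hn'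
  obtain ⟨a, ha, k, hk, e⟩ := hn'
  exact ⟨a, ha, k, hk, e⟩

variable (hKA : K ⊓ L.A = ⊥)
include hKA

theorem eq_one_of_KA {k : G} (hk : k ∈ K) (hA : k ∈ L.A) : k = 1 :=
  Subgroup.mem_bot.1 (hKA ▸ (⟨hk, hA⟩ : k ∈ K ⊓ L.A))

/-- A member of `K` in the product of `A` and `E` lies in `E`. -/
theorem mem_E_of_mul {a k : G} (ha : a ∈ L.A) (hk : k ∈ K) (hE : a * k ∈ L.E) : k ∈ L.E := by
  classical
  set N := Subgroup.normalizer (L.A : Set G)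
  set x : G := (L.C.x : G) with hx
  have conjA : ∀ {n b : G}, n ∈ N → b ∈ L.A → n * b * n⁻¹ ∈ L.A := fun hn hb =>
    (Subgroup.mem_normalizer_iff.1 hn _).1 hb
  have hxH : x ∈ L.H := L.C.x.2
  have hxN : x ∈ N := x_mem_normalizer L
  obtain ⟨a₀, ha₀, p, hp, hpx⟩ := decomp L hKN hsup hxN
  have hp_eq : p = a₀⁻¹ * x := eq_inv_mul_of_mul_eq hpx
  have hpH : p ∈ L.H := hp_eq ▸ mul_mem (inv_mem (L.A_le_H ha₀)) hxH
  have cA : ∀ b ∈ L.A, b⁻¹ * (x * b * x⁻¹) ∈ L.E := fun b hb => by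
    have := conj_E L (inv_mem (L.A_le_H hb)) (comm_x_A L hb)
    rw [← hx] at this
    rwa [inv_inv, show b⁻¹ * (x * b * x⁻¹ * b⁻¹) * b = b⁻¹ * (x * b * x⁻¹) by group] at this
  -- the part of `x` in `A` lies in `E`
  have hb : a₀⁻¹ ∈ L.E := by
    set b := a₀⁻¹ with hb0
    have hbA : b ∈ L.A := inv_mem ha₀
    have hxb := conjA hxN hbA
    have hxxb := conjA hxN hxb
    have x3 : x * (x * x) = 1 := by
      rw [hx, ← Subgroup.coe_mul, ← Subgroup.coe_mul]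
      have := L.C.pow_three L.C.x_mem
      rw [pow_succ', pow_two] at this
      rw [this]; rfl
    have e : p * (p * p) = b * (x * b * x⁻¹) * (x * (x * b * x⁻¹) * x⁻¹) := by
      calc p * (p * p) = b * (x * b * x⁻¹) * (x * (x * b * x⁻¹) * x⁻¹) * (x * (x * x)) := by
            rw [hp_eq]; group
        _ = _ := by rw [x3, mul_one]
    have h1 : b * (x * b * x⁻¹) * (x * (x * b * x⁻¹) * x⁻¹) = 1 := by
      rw [← e]
      exact eq_one_of_KA L hKN hsup hKA (mul_mem hp (mul_mem hp hp))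
        (e ▸ mul_mem (mul_mem hbA hxb) hxxb)
    set e₁ := b⁻¹ * (x * b * x⁻¹) with he₁
    have he₁E : e₁ ∈ L.E := cA b hbA
    have he₁' : x * b * x⁻¹ = b * e₁ := by rw [he₁, mul_inv_cancel_left]
    rw [he₁', show x * (b * e₁) * x⁻¹ = (x * b * x⁻¹) * (x * e₁ * x⁻¹) by group, he₁',
      show b * (b * e₁) * (b * e₁ * (x * e₁ * x⁻¹)) = (b * b) * (e₁ * b * e₁ * (x * e₁ * x⁻¹)) by group,
      L.A_sq hbA, one_mul,
      show e₁ * b * e₁ * (x * e₁ * x⁻¹) = b * ((b⁻¹ * e₁ * b⁻¹⁻¹) * e₁ * (x * e₁ * x⁻¹)) by group] at h1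
    rw [eq_inv_of_mul_eq_one_left h1]
    exact inv_mem (mul_mem (mul_mem (conj_E L (inv_mem (L.A_le_H hbA)) he₁E) he₁E) (conj_E L hxH he₁E))
  let T : Subgroup G :=
    { carrier := {y | y ∈ K ∧ ∃ c ∈ L.A, c * y ∈ L.E}
      one_mem' := ⟨one_mem _, 1, one_mem _, by rw [one_mul]; exact one_mem _⟩
      mul_mem' := by
        rintro y y' ⟨hy, c, hc, hcy⟩ ⟨hy', c', hc', hcy'⟩
        refine ⟨mul_mem hy hy', c' * c, mul_mem hc' hc, ?_⟩
        rw [show c' * c * (y * y') = (c' * (c * y) * c'⁻¹) * ((c' * y') * (y'⁻¹ * y')) by group,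
          inv_mul_cancel, mul_one]
        exact mul_mem (conj_E L (L.A_le_H hc') hcy) hcy'
      inv_mem' := by
        rintro y ⟨hy, c, hc, hcy⟩
        refine ⟨inv_mem hy, c⁻¹, inv_mem hc, ?_⟩
        rw [show c⁻¹ * y⁻¹ = c⁻¹ * ((c * y)⁻¹) * c⁻¹⁻¹ * (c⁻¹ * c⁻¹⁻¹) by group, mul_inv_cancel,
          mul_one]
        exact conj_E L (inv_mem (L.A_le_H hc)) (inv_mem hcy) }
  have hcomm : ∀ y ∈ T, y * p * y⁻¹ * p⁻¹ ∈ K ∧ y * p * y⁻¹ * p⁻¹ ∈ L.E := by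
    rintro y ⟨hy, c, hc, hcy⟩
    refine ⟨mul_mem (mul_mem (mul_mem hy hp) (inv_mem hy)) (inv_mem hp), ?_⟩
    set e := c * y with he
    have hε : e * p * e⁻¹ * p⁻¹ ∈ L.E := by
      rw [show e * p * e⁻¹ * p⁻¹ = e * (p * e⁻¹ * p⁻¹) by group]
      exact mul_mem hcy (conj_E L hpH (inv_mem hcy))
    have hη : c⁻¹ * (p * c * p⁻¹) ∈ L.E := by
      rw [hp_eq, show c⁻¹ * (a₀⁻¹ * x * c * (a₀⁻¹ * x)⁻¹) = (c⁻¹ * a₀⁻¹ * c⁻¹⁻¹) * (c⁻¹ * (x * c * x⁻¹)) * a₀ by group]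
      exact mul_mem (mul_mem (conj_E L (inv_mem (L.A_le_H hc)) hb) (cA c hc)) (inv_mem_iff.1 hb)
    rw [show y * p * y⁻¹ * p⁻¹ = (c⁻¹ * (e * p * e⁻¹ * p⁻¹) * c⁻¹⁻¹) * (c⁻¹ * (p * c * p⁻¹)) by
      rw [he]; group]
    exact mul_mem (conj_E L (inv_mem (L.A_le_H hc)) hε) hη
  have hfree : ∀ y ∈ T, y * p = p * y → y = 1 := by
    rintro y ⟨hy, c, hc, hcy⟩ hyp
    set e := c * y with he
    have hpN : p ∈ N := hKN hp
    have h1 : e * p * e⁻¹ * p⁻¹ ∈ L.A := by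
      rw [show e * p * e⁻¹ * p⁻¹ = c * ((y * p) * (p * y)⁻¹) * (p * y * y⁻¹ * c⁻¹ * (p * (y * y⁻¹))⁻¹) by
        rw [he]; group, hyp, mul_inv_cancel, mul_one]
      rw [show p * y * y⁻¹ * c⁻¹ * (p * (y * y⁻¹))⁻¹ = p * c⁻¹ * p⁻¹ by group]
      exact mul_mem hc (conjA hpN (inv_mem hc))
    have h2 : x * e * x⁻¹ * e⁻¹ ∈ L.A := by
      have hxe : x = a₀ * p := hpx.symm
      have he' : e ∈ N := L.E_le_normalizer hcy
      rw [hxe, show a₀ * p * e * (a₀ * p)⁻¹ * e⁻¹ =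
        a₀ * ((e * p * e⁻¹ * p⁻¹)⁻¹) * (e * a₀⁻¹ * e⁻¹) by group]
      exact mul_mem (mul_mem ha₀ (inv_mem h1)) (conjA he' (inv_mem ha₀))
    have heA := mem_A_of_comm_x L hcy h2
    refine eq_one_of_KA L hKN hsup hKA hy ?_
    rw [← inv_mul_cancel_left c y]
    exact mul_mem (inv_mem hc) heA
  let f : T → T := fun y => ⟨(y : G) * p * (y : G)⁻¹ * p⁻¹,
    (hcomm y y.2).1, 1, one_mem _, by rw [one_mul]; exact (hcomm y y.2).2⟩
  have hinj : Function.Injective f := by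
    intro y y' h
    have h' : (y : G) * p * (y : G)⁻¹ * p⁻¹ = (y' : G) * p * (y' : G)⁻¹ * p⁻¹ :=
      congrArg Subtype.val h
    refine Subtype.ext (inv_mul_eq_one.1 (hfree _ (mul_mem (inv_mem y'.2) y.2) ?_)).symm
    have h2 := mul_right_cancel h'
    calc (y' : G)⁻¹ * y * p = (y' : G)⁻¹ * ((y : G) * p * (y : G)⁻¹) * y := by group
      _ = p * ((y' : G)⁻¹ * y) := by rw [h2]; group
  obtain ⟨y, hy⟩ := Finite.surjective_of_injective hinj ⟨k, hk, a, ha, hE⟩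
  rw [show k = (y : G) * p * (y : G)⁻¹ * p⁻¹ from (congrArg Subtype.val hy).symm]
  exact (hcomm y y.2).2

end complement

end CfsgLib.JFourCent
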