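import Cfsg.Agent.JFourCent.Data
import Cfsg.Agent.JFourEleven.Cocode
import Cfsg.Agent.M24Classes.Classes

/-!
# Fixed vectors of the involutions of M24 on the even part of the cocode

For an involution `σ` at most 128 vectors are fixed, at most 32 are of the form `σ v + v`, and the
centralizer of `σ` permutes transitively the classes of the other fixed vectors modulo those.
-/

set_option autoImplicit false
set_option maxRecDepth 100000
set_option linter.style.haveILetI false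

namespace CfsgLib.JFourCent

open Cfsg CfsgLib.Mathieu CfsgLib.M24Classes CfsgLib.JFourEleven Matrix
open CfsgLib.MTwentyThreeUnique.Gl11 (V M vecOf toMat toMat_mulVec ext_cols col_eq vecOf_xor eq_of_vecOf_eq
  exists_vecOf)
open CfsgLib.MTwentyFourUnique.Gl11 (repD24)
open CfsgLib.JFourEleven.Cocode (eMask eVec eVec_eq repD24_eVec)

/-- The columns of the representation on a table. -/
def cols (t : ℕ) : List ℕ := (List.range 11).map fun j => eMask (app t j) ^^^ eMask (app t 23)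

theorem eMask_pow : ∀ j < 11, eMask j = 2 ^ j := by decide +kernel

theorem repD24_rep {σ : Cfsg.M24} {t : ℕ} (r : Rep enc (σ : Equiv.Perm GolayPt) t) :
    repD24 σ = toMat (cols t) := by
  refine ext_cols fun j => ?_
  have hj : j.val < 11 := j.isLt
  have hidx : ∀ p : GolayPt, idx ((σ : Equiv.Perm GolayPt) p) = app t (idx p) := fun p => (r p).symm
  have e : vecOf (2 ^ j.val) = eVec (pt j.val) := by
    rw [eVec_eq, idx_pt (by omega), eMask_pow _ hj]
  conv_lhs => rw [e, repD24_eVec, eVec_eq, eVec_eq, hidx, hidx, idx_pt (by omega),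
    show idx (none : GolayPt) = 23 from rfl, ← vecOf_xor]
  rw [col_eq]
  funext i
  show _ = MTwentyThreeUnique.Gl11.bit ((cols t).getD j.val 0) i.val
  rw [cols, List.getD_eq_getElem?_getD]
  simp [hj, vecOf]

/-- The fixed vectors. -/
def fixV (σ : Cfsg.M24) : Set V := {v | repD24 σ *ᵥ v = v}

/-- The vectors `σ v + v`. -/
def imV (σ : Cfsg.M24) : Set V := Set.range fun v => repD24 σ *ᵥ v + v

/-- The property proved for every involution. -/
structure Mixed (σ : Cfsg.M24) : Prop where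
  fixed : Nat.card (fixV σ) ≤ 128
  image : Nat.card (imV σ) ≤ 32
  trans : ∀ v ∈ fixV σ, ∀ w ∈ fixV σ, v ∉ imV σ → w ∉ imV σ →
    ∃ g : Cfsg.M24, g * σ = σ * g ∧ repD24 g *ᵥ v + w ∈ imV σ

theorem mulVec_mulVec' (g h : Cfsg.M24) (v : V) :
    repD24 g *ᵥ (repD24 h *ᵥ v) = repD24 (g * h) *ᵥ v := by
  rw [map_mul, Matrix.mulVec_mulVec]

theorem mulVec_inv_cancel (g : Cfsg.M24) (v : V) : repD24 g⁻¹ *ᵥ (repD24 g *ᵥ v) = v := by
  rw [mulVec_mulVec', inv_mul_cancel, map_one, Matrix.one_mulVec]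

theorem fixV_conj {σ h : Cfsg.M24} {v : V} :
    v ∈ fixV (h * σ * h⁻¹) ↔ repD24 h⁻¹ *ᵥ v ∈ fixV σ := by
  show repD24 (h * σ * h⁻¹) *ᵥ v = v ↔ repD24 σ *ᵥ (repD24 h⁻¹ *ᵥ v) = repD24 h⁻¹ *ᵥ v
  rw [mulVec_mulVec']
  constructor
  · intro e
    conv_rhs => rw [← e]
    rw [mulVec_mulVec', mul_assoc h, inv_mul_cancel_left]
  · intro e
    rw [mul_assoc h, ← mulVec_mulVec' h, e, mulVec_mulVec', mul_inv_cancel, map_one,
      Matrix.one_mulVec]

theorem imV_conj {σ h : Cfsg.M24} {v : V} :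
    v ∈ imV (h * σ * h⁻¹) ↔ repD24 h⁻¹ *ᵥ v ∈ imV σ := by
  constructor
  · rintro ⟨u, rfl⟩
    refine ⟨repD24 h⁻¹ *ᵥ u, ?_⟩
    simp only [Matrix.mulVec_add, mulVec_mulVec']
    rw [mul_assoc h, inv_mul_cancel_left]
  · rintro ⟨u, hu⟩
    refine ⟨repD24 h *ᵥ u, ?_⟩
    have := congrArg (repD24 h *ᵥ ·) hu
    simp only [Matrix.mulVec_add, mulVec_mulVec', mul_inv_cancel, map_one, Matrix.one_mulVec] at this
    rw [← this]
    simp only [mulVec_mulVec']
    rw [show h * σ * h⁻¹ * h = h * σ by group]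

theorem card_le_of_map {S T : Set V} (g : Cfsg.M24) (h : ∀ v ∈ S, repD24 g *ᵥ v ∈ T) :
    Nat.card S ≤ Nat.card T :=
  Nat.card_le_card_of_injective (fun v : S => (⟨repD24 g *ᵥ v.1, h v.1 v.2⟩ : T)) fun a b e =>
    Subtype.ext (by
      have := congrArg (fun x : T => repD24 g⁻¹ *ᵥ x.1) e
      simpa only [mulVec_inv_cancel] using this)

theorem Mixed.conj {σ : Cfsg.M24} (hσ : Mixed σ) (h : Cfsg.M24) : Mixed (h * σ * h⁻¹) where
  fixed := (card_le_of_map h⁻¹ fun _ hv => fixV_conj.1 hv).trans hσ.fixed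
  image := (card_le_of_map h⁻¹ fun _ hv => imV_conj.1 hv).trans hσ.image
  trans := by
    intro v hv w hw hv' hw'
    obtain ⟨g, hg, hi⟩ := hσ.trans _ (fixV_conj.1 hv) _ (fixV_conj.1 hw) (mt imV_conj.2 hv')
      (mt imV_conj.2 hw')
    refine ⟨h * g * h⁻¹, by
      rw [show h * g * h⁻¹ * (h * σ * h⁻¹) = h * (g * σ) * h⁻¹ by group, hg]; group, imV_conj.2 ?_⟩
    rw [Matrix.mulVec_add, mulVec_mulVec', show h⁻¹ * (h * g * h⁻¹) = g * h⁻¹ by group,
      ← mulVec_mulVec']
    exact hi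

/-- The image as a bit set. -/
def imgSet (t : ℕ) : ℕ :=
  (List.range 2048).foldr (fun y acc => 2 ^ (xorSel (cols t) y ^^^ y) ||| acc) 0

/-- The fixed masks. -/
def fixList (t : ℕ) : List ℕ := (List.range 2048).filter fun y => xorSel (cols t) y == y

/-- The check of a certificate. -/
def certOK (t : ℕ) (c : Cert) : Bool :=
  (imgSet t == c.im) && decide ((fixList t).length ≤ 128) &&
    decide (((List.range 2048).filter fun y => c.im.testBit y).length ≤ 32) &&
    ((fixList t).filter (fun y => !c.im.testBit y) == c.out) &&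
    c.gens.all (fun g => isM24Tab g.1 && (cols g.1 == g.2) &&
      allBelow 24 (fun i => app g.1 (app t i) == app t (app g.1 i))) &&
    c.out.all fun v => c.out.all fun w => c.gens.any fun g => c.im.testBit (xorSel g.2 v ^^^ w)

theorem certFree_ok : certOK tab2Free certFree = true := by decide +kernel

theorem certOct_ok : certOK tab2Oct certOct = true := by decide +kernel

theorem testBit_imgSet {t y : ℕ} :
    (imgSet t).testBit y = true ↔ ∃ u < 2048, xorSel (cols t) u ^^^ u = y := by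
  rw [imgSet, Cocode.testBit_foldr (fun u => xorSel (cols t) u ^^^ u)]
  simp

theorem cols_length (t : ℕ) : (cols t).length = 11 := by simp [cols]

theorem eMask_lt (i : ℕ) (hi : i < 24) : eMask i < 2 ^ 11 := (Cocode.eMask_ok i hi).1

theorem card_le_of_list {S : Set V} {l : List ℕ}
    (h : ∀ v ∈ S, ∃ y ∈ l, vecOf y = v) : Nat.card S ≤ l.length := by
  classical
  rw [Nat.card_coe_set_eq]
  calc S.ncard ≤ ((l.toFinset.image vecOf : Finset V) : Set V).ncard := by
        refine Set.ncard_le_ncard fun v hv => ?_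
        obtain ⟨y, hy, e⟩ := h v hv
        exact Finset.mem_coe.2 (Finset.mem_image.2 ⟨y, List.mem_toFinset.2 hy, e⟩)
    _ = (l.toFinset.image vecOf).card := Set.ncard_coe_finset _
    _ ≤ l.toFinset.card := Finset.card_image_le
    _ ≤ l.length := l.toFinset_card_le

theorem mixed_of_cert {σ : Cfsg.M24} {t : ℕ} (r : Rep enc (σ : Equiv.Perm GolayPt) t) {c : Cert}
    (hok : certOK t c = true) : Mixed σ := by
  simp only [certOK, Bool.and_eq_true, decide_eq_true_eq, beq_iff_eq, List.all_eq_true,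
    allBelow_iff, List.any_eq_true] at hok
  obtain ⟨⟨⟨⟨⟨him, hfix⟩, himc⟩, hout⟩, hgens⟩, hcov⟩ := hok
  have happ : ∀ i < 24, app t i < 24 := fun i hi => by
    have := r (pt i)
    rw [show (enc (pt i)).val = i from idx_pt hi] at this
    exact this ▸ (enc _).isLt
  have hcols : ∀ x ∈ cols t, x < 2 ^ 11 := fun x hx => by
    obtain ⟨j, hj, rfl⟩ := List.mem_map.1 hx
    have hj' : j < 11 := List.mem_range.1 hj
    exact Nat.xor_lt_two_pow (eMask_lt _ (happ j (by omega))) (eMask_lt _ (happ 23 (by omega)))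
  have hlt : ∀ u, xorSel (cols t) u < 2048 := fun u => xorSel_lt (b := 11) _ _ hcols
  have hact : ∀ u, repD24 σ *ᵥ vecOf u = vecOf (xorSel (cols t) u) := fun u => by
    rw [repD24_rep r, toMat_mulVec _ (cols_length t)]
  have memFix : ∀ y < 2048, (vecOf y ∈ fixV σ ↔ y ∈ fixList t) := fun y hy => by
    rw [fixList, List.mem_filter, beq_iff_eq, List.mem_range]
    show repD24 σ *ᵥ vecOf y = vecOf y ↔ _
    rw [hact]
    exact ⟨fun e => ⟨hy, eq_of_vecOf_eq (hlt y) hy e⟩, fun e => by rw [e.2]⟩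
  have memIm : ∀ y < 2048, (vecOf y ∈ imV σ ↔ c.im.testBit y = true) := fun y hy => by
    rw [← him, testBit_imgSet]
    constructor
    · rintro ⟨u', e⟩
      obtain ⟨u, hu, rfl⟩ := exists_vecOf u'
      simp only [hact, ← vecOf_xor] at e
      exact ⟨u, hu, eq_of_vecOf_eq (Nat.xor_lt_two_pow (n := 11) (hlt u) hu) hy e⟩
    · rintro ⟨u, -, e⟩
      exact ⟨vecOf u, by simp only [hact, ← vecOf_xor, e]⟩
  refine ⟨(card_le_of_list fun v hv => ?_).trans hfix, (card_le_of_list fun v hv => ?_).trans himc, ?_⟩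
  · obtain ⟨y, hy, rfl⟩ := exists_vecOf v
    exact ⟨y, (memFix y hy).1 hv, rfl⟩
  · obtain ⟨y, hy, rfl⟩ := exists_vecOf v
    exact ⟨y, List.mem_filter.2 ⟨List.mem_range.2 hy, (memIm y hy).1 hv⟩, rfl⟩
  · intro v hv w hw hv' hw'
    obtain ⟨a, ha, rfl⟩ := exists_vecOf v
    obtain ⟨b, hb, rfl⟩ := exists_vecOf w
    have hmem : ∀ y < 2048, vecOf y ∈ fixV σ → vecOf y ∉ imV σ → y ∈ c.out := fun y hy h1 h2 => by
      rw [← hout, List.mem_filter]
      refine ⟨(memFix y hy).1 h1, ?_⟩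
      simp only [Bool.not_eq_true']
      exact Bool.eq_false_iff.2 fun h => h2 ((memIm y hy).2 h)
    obtain ⟨g, hg, hbit⟩ := hcov a (hmem a ha hv hv') b (hmem b hb hw hw')
    obtain ⟨⟨hgM, hgc⟩, hcomm⟩ := hgens g hg
    obtain ⟨s, hs, rs⟩ := inGroup_of_isM24Tab hgM
    refine ⟨⟨s, hs⟩, Subtype.ext (Equiv.ext fun p => enc.injective (Fin.ext ?_)), ?_⟩
    · show (enc (s ((σ : Equiv.Perm GolayPt) p))).val = (enc ((σ : Equiv.Perm GolayPt) (s p))).val
      rw [← rs, ← r, ← r, ← rs]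
      exact hcomm _ (enc p).isLt
    · rw [repD24_rep (σ := ⟨s, hs⟩) rs, toMat_mulVec _ (cols_length g.1), hgc, ← vecOf_xor]
      obtain ⟨u, -, e⟩ := testBit_imgSet.1 (him.symm ▸ hbit)
      exact ⟨vecOf u, by simp only [hact, ← vecOf_xor, e]⟩

/-- Every involution of `M24`. -/
theorem mixed {σ : Cfsg.M24} (hσ : orderOf σ = 2) : Mixed σ := by
  rcases involution_classes σ.2 (by rw [Subgroup.orderOf_coe]; exact hσ) with ⟨h, hh, e⟩ | ⟨h, hh, e⟩
  · rw [show σ = ⟨h, hh⟩ * ⟨inv2Free, inv2Free_mem⟩ * ⟨h, hh⟩⁻¹ from Subtype.ext e.symm]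
    exact (mixed_of_cert (σ := ⟨inv2Free, inv2Free_mem⟩) inv2Free_rep certFree_ok).conj _
  · rw [show σ = ⟨h, hh⟩ * ⟨inv2Oct, inv2Oct_mem⟩ * ⟨h, hh⟩⁻¹ from Subtype.ext e.symm]
    exact (mixed_of_cert (σ := ⟨inv2Oct, inv2Oct_mem⟩) inv2Oct_rep certOct_ok).conj _

end CfsgLib.JFourCent
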