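import Cfsg.Agent.JFourEleven.Setting
import Cfsg.Agent.JFourSeven.HSide

/-!
# Elements of order seven and eleven centralise no involution of the extraspecial subgroup but the central one
-/

set_option autoImplicit false
set_option linter.style.haveILetI false
set_option linter.unusedSectionVars false

namespace CfsgLib.JFourCent

open Cfsg CfsgLib.JFourType CfsgLib.JFourEleven Module
open CfsgLib.JFourEleven.Cent

variable {G : Type*} [Group G] [Finite G] {z : G} (L : Setting z)

theorem card_M22g : Nat.card M22g = 443520 := CfsgLib.Mathieu.card_SporM22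

/-- A lift of prime order `p` prime to six dividing the order of `M22`. -/
theorem exists_lift_order {H : Type*} [Group H] [Finite H] (C : Cent H) {p k : ℕ} [Fact p.Prime]
    (hk : 6 * k % p = 1) (hd : p ∣ 443520) :
    ∃ (c : H) (m : M22g), C.Lift c m ∧ orderOf m = p ∧ c ^ p = 1 := by
  obtain ⟨m, hm⟩ := exists_prime_orderOf_dvd_card' (G := M22g) p (card_M22g ▸ hd)
  obtain ⟨c, hc⟩ := C.exists_lift m
  refine ⟨c ^ (6 * k), m, ?_, hm, ?_⟩
  · have e : m ^ (6 * k) = m := by rw [← pow_mod_orderOf, hm, hk, pow_one]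
    have := Lift.pow C hc (6 * k)
    rwa [e] at this
  · have hl := Lift.pow C hc p
    rw [show m ^ p = 1 from hm ▸ pow_orderOf_eq_one m] at hl
    rw [← pow_mul, mul_comm _ p, pow_mul, pow_mul, (C.mem_center_part (Lift.mem_ker C hl) hl.1).2,
      one_pow]

/-- Every frame at `z` has the same extraspecial subgroup. -/
theorem shape_E {S : Shape G} (hSz : S.z = z) : S.E = L.E := by
  refine Subgroup.eq_of_le_of_card_ge ?_ (by rw [S.card_E, L.card_E])
  have hle : S.E ≤ L.H := fun x hx => Subgroup.mem_centralizer_singleton_iff.2 (by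
    rw [← hSz]; exact S.sub.z_comm hx)
  have hn : (S.E.subgroupOf L.H).Normal := ⟨fun x hx m => by
    rw [Subgroup.mem_subgroupOf] at hx ⊢
    exact S.conj_mem (S.mem_H.2 (by rw [hSz]; exact Subgroup.mem_centralizer_singleton_iff.1 m.2)) hx⟩
  have hp : IsPGroup 2 (S.E.subgroupOf L.H) :=
    S.isPGroup_E.of_equiv (Subgroup.subgroupOfEquivOfLe hle).symm
  rw [show L.E = twoCoreOfCentralizer z from L.mapE]
  intro x hx
  exact ⟨⟨x, hle hx⟩, le_sSup (show S.E.subgroupOf L.H ∈
    {M : Subgroup L.H | M.Normal ∧ IsPGroup 2 M} from ⟨hn, hp⟩) hx, rfl⟩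

/-- An element of order seven. -/
theorem exists_seven : ∃ c ∈ L.H, c ^ 7 = 1 ∧ ∀ e ∈ L.E, c * e * c⁻¹ = e → e = 1 ∨ e = z := by
  haveI : Fact (Nat.Prime 7) := ⟨by norm_num⟩
  obtain ⟨c, m, hl, hm, h7⟩ := exists_lift_order L.C (p := 7) (k := 6) (by norm_num) (by norm_num)
  have hc7 : orderOf (c : G) = 7 := by
    rw [Subgroup.orderOf_coe]
    refine orderOf_eq_prime h7 fun e => ?_
    have := hl.2
    rw [e, map_one, eq_comm, ← map_one MulAut.conj] at this
    rw [CfsgLib.JFourEleven.conj_injective this, orderOf_one] at hm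
    norm_num at hm
  obtain ⟨S, hSz, -⟩ := Shape.exists_of_isOfJankoFourTypeWith L.type
  have hcS : (c : G) ∈ S.H := S.mem_H.2 (by
    rw [hSz]; exact Subgroup.mem_centralizer_singleton_iff.1 c.2)
  obtain ⟨T, hT, hcT, -⟩ := JFourSeven.exists_shape (S := S) (Or.inr rfl) hcS hc7
  have hTz : T.z = z := hT.trans hSz
  refine ⟨c, c.2, by rw [← hc7]; exact pow_orderOf_eq_one _, fun e he hce => ?_⟩
  rw [← shape_E L hTz] at he
  have := JFourSeven.E_cent_seven hcT hc7 he (show Commute e (c : G) from (mul_inv_eq_iff_eq_mul.1 hce).symm)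
  rwa [hTz] at this

/-- The fixed vectors of a lift of order eleven carry no involution. -/
theorem no_fixed_eleven {H : Type*} [Group H] [Finite H] {C : Cent H} (D : C.Coord) {c : H}
    {m : M22g} (hl : C.Lift c m) (hm : orderOf m = 11) (h11 : c ^ 11 = 1) {e : H} (he : e ∈ C.E)
    (he2 : e * e = 1) (hce : c * e * c⁻¹ = e) : C.IsZ e := by
  classical
  refine (D.eq_zero e he).1 ?_
  by_contra hv0
  set v := D.ψ e with hv
  have hfix : D.ρ c v = v := by rw [hv, D.ρ_ψ c e he, hce]
  set U := fixed (D.ρ c) with hU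
  have hit : ∀ (k : ℕ) (w : Vec), (⇑(D.ρ c))^[k] w = D.ρ (c ^ k) w := by
    intro k
    induction k with
    | zero => simp
    | succ k ih => intro w; rw [Function.iterate_succ_apply', ih, D.ρ_apply_apply, ← pow_succ']
  have hmod := JFourEleven.card_modEq_fixed (by norm_num : Nat.Prime 11) (D.ρ c) (Set.univ : Set Vec)
    (fun w _ => trivial) fun w _ => by rw [hit, h11, map_one, Module.End.one_apply]
  have hset : {w | w ∈ (Set.univ : Set Vec) ∧ D.ρ c w = w} = (U : Set Vec) := by
    ext w; simp [U, mem_fixed]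
  rw [hset, SetLike.coe_sort_coe, card_submodule, Nat.card_coe_set_eq, Set.ncard_univ,
    Nat.card_fun, Nat.card_zmod, Nat.card_fin] at hmod
  have hle : finrank (ZMod 2) U ≤ 12 := (Submodule.finrank_le _).trans (finrank_fin_fun (ZMod 2)).le
  have hne : finrank (ZMod 2) U ≠ 12 := fun h => by
    have htop : U = ⊤ := Submodule.eq_top_of_finrank_eq (by rw [h, finrank_fin_fun])
    have hρ : D.ρ c = 1 := LinearMap.ext fun w => mem_fixed.1 (htop ▸ Submodule.mem_top : w ∈ U)
    have := MonoidHom.mem_ker.1 (C.E_le (D.mem_E_of_ρ hρ))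
    rw [hl.2, ← map_one MulAut.conj] at this
    rw [CfsgLib.JFourEleven.conj_injective this, orderOf_one] at hm
    norm_num at hm
  have hd : finrank (ZMod 2) U = 2 := by
    generalize finrank (ZMod 2) U = d at hmod hle hne
    interval_cases d <;> first | rfl | omega
  -- the fixed space is the line of `v`
  have hxc : ∀ w, D.ρ c (D.ρ C.x w) = D.ρ C.x (D.ρ c w) := fun w => by
    rw [D.ρ_apply_apply, D.ρ_apply_apply, C.P_comm_CP C.x_mem hl.1]
  have hsub : ((insert 0 (D.line v) : Finset Vec) : Set Vec) ⊆ (U : Set Vec) := by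
    intro w hw
    simp only [Cent.Coord.line, Finset.coe_insert, Finset.coe_singleton, Set.mem_insert_iff,
      Set.mem_singleton_iff] at hw
    refine mem_fixed.2 ?_
    rcases hw with rfl | rfl | rfl | rfl <;> simp only [map_zero, hxc, hfix]
  have h0 : (0 : Vec) ∉ D.line v := fun h => by
    simp only [Cent.Coord.line, Finset.mem_insert, Finset.mem_singleton] at h
    rcases h with h | h | h
    exacts [hv0 h.symm, hv0 (D.ρ_injective _ h.symm), hv0 (D.ρ_injective _ (D.ρ_injective _ h.symm))]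
  have heq : ((insert 0 (D.line v) : Finset Vec) : Set Vec) = (U : Set Vec) :=
    Set.eq_of_subset_of_ncard_le hsub (by
      rw [Set.ncard_coe_finset, Finset.card_insert_of_notMem h0, D.card_line hv0,
        ← Nat.card_coe_set_eq, SetLike.coe_sort_coe, card_submodule, hd]; norm_num)
  -- `v` is orthogonal to its line
  have Bxv : D.B v (D.ρ C.x v) = 0 := by
    have hf := C.normal C.x e he
    have hg := C.normal C.x _ hf
    have hψ : D.ψ (e * (C.x * e * C.x⁻¹)) = D.ψ (C.x * (C.x * e * C.x⁻¹) * C.x⁻¹) := by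
      rw [D.mul _ he _ hf, ← D.ρ_ψ _ _ hf, ← D.ρ_ψ _ _ he]
      exact (eq_neg_of_add_eq_zero_left (D.x_sum (D.ψ e))).trans
        (neg_eq_of_add_eq_zero_right (JFourEleven.add_self' _))
    have hg2 : C.x * (C.x * e * C.x⁻¹) * C.x⁻¹ * (C.x * (C.x * e * C.x⁻¹) * C.x⁻¹) = 1 := by
      rw [show C.x * (C.x * e * C.x⁻¹) * C.x⁻¹ * (C.x * (C.x * e * C.x⁻¹) * C.x⁻¹) =
        C.x * (C.x * (e * e) * C.x⁻¹) * C.x⁻¹ by group, he2]
      group
    have hf2 : C.x * e * C.x⁻¹ * (C.x * e * C.x⁻¹) = 1 := by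
      rw [show C.x * e * C.x⁻¹ * (C.x * e * C.x⁻¹) = C.x * (e * e) * C.x⁻¹ by group, he2]
      group
    rw [hv, D.ρ_ψ _ _ he, D.B_ψ _ he _ hf]
    set f := C.x * e * C.x⁻¹
    set g := C.x * f * C.x⁻¹
    have h2 : e * f * (e * f) = 1 := by
      rcases D.eq_of_ψ hg (mul_mem he hf) hψ.symm with h | h <;> rw [h]
      · exact hg2
      · rw [show C.z * g * (C.z * g) = C.z * (g * C.z) * g by group, C.central g,
          show C.z * (C.z * g) * g = (C.z * C.z) * (g * g) by group, C.z_sq, hg2, one_mul]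
    calc e * f = (e * f)⁻¹ := (inv_eq_of_mul_eq_one_right h2).symm
      _ = f * e := by rw [mul_inv_rev, inv_eq_of_mul_eq_one_right he2, inv_eq_of_mul_eq_one_right hf2]
  have Bvv : D.B v v = 0 := (D.B_ψ e he e he).2 rfl
  have Bline : ∀ u ∈ U, D.B v u = 0 := by
    intro u hu
    have hu' : u ∈ ((insert 0 (D.line v) : Finset Vec) : Set Vec) := heq ▸ hu
    simp only [Cent.Coord.line, Finset.coe_insert, Finset.coe_singleton, Set.mem_insert_iff,
      Set.mem_singleton_iff] at hu'
    rcases hu' with rfl | rfl | rfl | rfl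
    · simp
    · exact Bvv
    · exact Bxv
    · have := D.x_sum v
      rw [eq_neg_of_add_eq_zero_right this, map_neg, map_add, Bvv, Bxv, add_zero, neg_zero]
  refine hv0 ((D.B_refl.nondegenerate_iff_separatingLeft.1 D.B_nondeg) v fun w => ?_)
  have hsum : ∀ n : ℕ, D.B v (∑ i ∈ Finset.range n, D.ρ (c ^ i) w) = (n : ZMod 2) * D.B v w := by
    intro n
    induction n with
    | zero => simp
    | succ n ih =>
      have hn : D.B v (D.ρ (c ^ n) w) = D.B v w := by
        have hfx : D.ρ (c ^ n) v = v := by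
          rw [← hit, Function.iterate_fixed hfix]
        conv_lhs => rw [← hfx]
        exact D.B_ρ _ _ _
      rw [Finset.sum_range_succ, map_add, ih, hn, Nat.cast_succ, add_mul, one_mul]
  have hmem : (∑ i ∈ Finset.range 11, D.ρ (c ^ i) w) ∈ U := by
    refine mem_fixed.2 ?_
    rw [map_sum]
    simp only [D.ρ_apply_apply, ← pow_succ']
    rw [Finset.sum_range_succ, h11, Finset.sum_range_succ' (fun i => D.ρ (c ^ i) w)]
    simp
  have := Bline _ hmem
  rw [hsum, show ((11 : ℕ) : ZMod 2) = 1 from rfl, one_mul] at this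
  exact this

/-- An element of order eleven. -/
theorem exists_eleven : ∃ c ∈ L.H, c ^ 11 = 1 ∧
    ∀ e ∈ L.E, e * e = 1 → c * e * c⁻¹ = e → e = 1 ∨ e = z := by
  haveI : Fact (Nat.Prime 11) := ⟨by norm_num⟩
  obtain ⟨c, m, hl, hm, h11⟩ := exists_lift_order L.C (p := 11) (k := 2) (by norm_num) (by norm_num)
  refine ⟨c, c.2, by rw [← SubmonoidClass.coe_pow, h11]; rfl, ?_⟩
  rintro _ ⟨e, he, rfl⟩ he2 hce
  rcases no_fixed_eleven L.D hl hm h11 he (Subtype.ext he2) (Subtype.ext hce) with rfl | rfl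
  · exact Or.inl rfl
  · exact Or.inr L.Cz

end CfsgLib.JFourCent
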