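import Cfsg.Agent.JFourCent.ClassFact
import Cfsg.Agent.JFourEleven.Orbit
import Cfsg.Agent.JFourEleven.OuterFacts

/-!
# The centralizer of an involution of the second class

It is the split extension of `A` by the stabiliser of a pair of points in M24, the automorphism group
of M22.
-/

set_option autoImplicit false
set_option linter.style.haveILetI false

namespace CfsgLib.JFourCent

open Cfsg CfsgLib.JFourType CfsgLib.JFourEleven

/-- A member of `M24` moving two given points to the two points fixed by `M22`. -/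
theorem exists_map_two {p q : GolayPt} (h : p ≠ q) :
    ∃ s : Equiv.Perm GolayPt, s ∈ M24 ∧ s p = none ∧ s q = some 0 := by
  classical
  let b : Fin 5 → GolayPt := ![none, some 0, some 1, some 2, some 3]
  have hb : Function.Injective b := by decide +kernel
  let π : Equiv.Perm GolayPt := Equiv.swap (Equiv.swap none p (some 0)) q * Equiv.swap none p
  have h0 : π none = p := by
    show Equiv.swap (Equiv.swap none p (some 0)) q (Equiv.swap none p none) = p
    rw [Equiv.swap_apply_left]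
    refine Equiv.swap_apply_of_ne_of_ne (fun e => ?_) h
    rw [← Equiv.swap_apply_left none p] at e
    nth_rewrite 2 [Equiv.swap_apply_left none p] at e
    exact absurd ((Equiv.swap none p).injective e) (by simp)
  have h1 : π (some 0) = q := Equiv.swap_apply_left _ _
  obtain ⟨s, hs, hsx⟩ := Mathieu.M24_map_five (fun i => π (b i)) b (π.injective.comp hb) hb
  exact ⟨s, hs, by simpa [b, h0] using hsx 0, by simpa [b, h1] using hsx 1⟩

/-- The kernel-free map of the pair stabiliser onto the automorphism group of `M22`. -/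
theorem pairAut_surjective : Function.Surjective pairAut := by
  obtain ⟨s, hs, h0, h1⟩ := exists_map_two (p := (some 0 : GolayPt)) (q := none) (by simp)
  have hsP : s ∈ pairStab := ⟨hs, by simp [pairPts, h0, h1, Finset.pair_comm]⟩
  have hns : pairAut ⟨s, hsP⟩ ∉ Inn M22g := not_inner_of_swap h1
  intro σ
  rw [← MonoidHom.mem_range]
  have hle : Inn M22g ≤ pairAut.range := fun _ hx => by
    obtain ⟨x, rfl⟩ := hx
    exact ⟨⟨x.1, mem_pairStab_of_M22 x⟩, pairAut_M22 x⟩
  have hprime : (Inn M22g).index.Prime := index_inn ▸ Nat.prime_two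
  have h := Subgroup.relIndex_mul_index hle
  rcases (Nat.dvd_prime hprime).1 (Dvd.intro _ h) with e | e
  · exact absurd (Subgroup.relIndex_eq_one.1 e ⟨_, rfl⟩) hns
  · rw [e, Nat.mul_eq_left hprime.ne_zero, Subgroup.index_eq_one] at h
    rw [h]
    trivial

universe u

variable {G : Type u} [Group G] [Finite G] [IsSimpleGroup G]

/-- The shape of the centralizer of an involution of the second class. -/
theorem centralizer_shape (hG : ¬ IsMulCommutative G) {z : G} (hJ : Cfsg.IsOfJankoFourTypeAt z)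
    {t : G} (ht : orderOf t = 2) (hnc : ¬ IsConj z t) :
    ∃ V K : Subgroup G, V ≤ Subgroup.centralizer ({t} : Set G) ∧
    K ≤ Subgroup.centralizer ({t} : Set G) ∧
    Subgroup.centralizer ({t} : Set G) ≤ Subgroup.normalizer (V : Set G) ∧
    Cfsg.IsElementaryAbelian 2 V ∧ Nat.card ↥V = 2 ^ 11 ∧
    K ⊓ V = ⊥ ∧ K ⊔ V = Subgroup.centralizer ({t} : Set G) ∧
    Nonempty (↥K ≃* MulAut ↥Cfsg.Spor.M22) := by
  classical
  obtain ⟨L⟩ := nonempty_setting hJ
  obtain ⟨M⟩ := nonempty_model (L.layer hG)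
  obtain ⟨K, hKN, hKA, hsup, -⟩ := L.exists_split hG
  set N := Subgroup.normalizer (L.A : Set G) with hN
  obtain ⟨a, ha, hat⟩ := exists_mem_A hG L ht
  have ha1 : a ≠ 1 := fun e => by
    rw [e, isConj_one_right] at hat
    rw [hat, orderOf_one] at ht
    norm_num at ht
  obtain ⟨p, q, hpq, rfl⟩ := (M.others_iff a).1 ⟨ha, ha1, fun h => hnc (h.trans hat)⟩
  -- move the pair to the two points fixed by `M22`
  obtain ⟨s, hs, hp, hq⟩ := exists_map_two hpq
  obtain ⟨m, hm⟩ := M.surj ⟨s, hs⟩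
  set d := M.δ none (some 0) with hd
  have hdm : (m : G) * M.δ p q * (m : G)⁻¹ = d := by rw [M.conj, hm]; simp [hd, hp, hq]
  have hne : (none : GolayPt) ≠ some 0 := by simp
  have hdc : IsConj d t := (isConj_iff.2 ⟨(m : G), hdm⟩ : IsConj (M.δ p q) d).symm.trans hat
  have hdA : d ∈ L.A := M.mem _ _
  have hCN : Subgroup.centralizer ({d} : Set G) ≤ N := L.centralizer_others hG (M.δ_others hne)
  set C := Subgroup.centralizer ({d} : Set G) with hC
  have hAC : L.A ≤ C := fun x hx =>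
    Subgroup.mem_centralizer_singleton_iff.2 ((L.layer hG).comm hx hdA)
  set K' := K ⊓ C with hK'
  have hdecomp : ∀ x ∈ C, ∃ b ∈ L.A, ∃ k ∈ K', b * k = x := fun x hx => by
    obtain ⟨b, hb, k, hk, rfl⟩ := decomp L hKN hsup (hCN hx)
    exact ⟨b, hb, k, ⟨hk, (C.mul_mem_cancel_left (hAC hb)).1 hx⟩, rfl⟩
  have hsupC : K' ⊔ L.A = C := le_antisymm (sup_le inf_le_right hAC) fun x hx => by
    obtain ⟨b, hb, k, hk, rfl⟩ := hdecomp x hx
    exact mul_mem (Subgroup.mem_sup_right hb) (Subgroup.mem_sup_left hk)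
  have hbot : K' ⊓ L.A = ⊥ := eq_bot_iff.2 fun x hx => hKA ▸ (⟨hx.1.1, hx.2⟩ : x ∈ K ⊓ L.A)
  -- the map onto the pair stabiliser
  let ι : K' →* N := Subgroup.inclusion (inf_le_left.trans hKN)
  have hfix : ∀ k : K', ((M.τ (ι k) : Cfsg.M24) : Equiv.Perm GolayPt) ∈ pairStab := fun k => by
    refine ⟨(M.τ (ι k)).2, ?_⟩
    have h := M.conj (ι k) none (some 0)
    have h' : (k : G) * d * (k : G)⁻¹ = d :=
      mul_inv_eq_iff_eq_mul.2 (Subgroup.mem_centralizer_singleton_iff.1 k.2.2)
    have e := (M.eq_iff hne _ _).1 (h.symm.trans h')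
    rcases e with ⟨e1, e2⟩ | ⟨e1, e2⟩ <;>
      simp [pairPts, e1, e2, Finset.pair_comm]
  let φ : K' →* pairStab :=
    { toFun := fun k => ⟨((M.τ (ι k) : Cfsg.M24) : Equiv.Perm GolayPt), hfix k⟩
      map_one' := Subtype.ext (by simp)
      map_mul' := fun a b => Subtype.ext (by simp) }
  have hφs : Function.Surjective φ := by
    rintro ⟨σ, hσ, himg⟩
    obtain ⟨n, hn⟩ := M.surj ⟨σ, hσ⟩
    obtain ⟨b, hb, k, hk, hbk⟩ := decomp L hKN hsup n.2
    have hnd : (n : G) * d * (n : G)⁻¹ = d := by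
      rw [hd, M.conj, hn, M.eq_iff hne]
      have m1 : σ none ∈ pairPts := himg ▸ Finset.mem_image_of_mem _ (by simp [pairPts])
      have m2 : σ (some 0) ∈ pairPts := himg ▸ Finset.mem_image_of_mem _ (by simp [pairPts])
      have n12 : σ none ≠ σ (some 0) := σ.injective.ne hne
      simp only [pairPts, Finset.mem_insert, Finset.mem_singleton] at m1 m2
      rcases m1 with e1 | e1 <;> rcases m2 with e2 | e2 <;> rw [e1, e2] at n12
      exacts [absurd rfl n12, Or.inl ⟨e1, e2⟩, Or.inr ⟨e1, e2⟩, absurd rfl n12]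
    have hkC : k ∈ C := (C.mul_mem_cancel_left (hAC hb)).1 (by
      rw [hbk]; exact Subgroup.mem_centralizer_singleton_iff.2 (mul_inv_eq_iff_eq_mul.1 hnd))
    refine ⟨⟨k, hk, hkC⟩, Subtype.ext ?_⟩
    show ((M.τ (ι ⟨k, hk, hkC⟩) : Cfsg.M24) : Equiv.Perm GolayPt) = σ
    have e : n = ⟨b, Subgroup.le_normalizer hb⟩ * ι ⟨k, hk, hkC⟩ := Subtype.ext hbk.symm
    rw [e, map_mul, M.mem_ker.2 (show ((⟨b, Subgroup.le_normalizer hb⟩ : N) : G) ∈ L.A from hb),
      one_mul] at hn
    rw [hn]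
  -- orders
  have hN276 : 276 * Nat.card C = Nat.card N := by
    have h := JFourSeven.ncard_orbit_mul_card N d
    rw [inf_eq_right.2 hCN] at h
    rw [← h]
    congr 1
    rw [← (L.layer hG).card_others, ← Nat.card_coe_set_eq]
    congr 2
    ext x
    constructor
    · intro hx
      obtain ⟨u, v, huv, rfl⟩ := (M.others_iff x).1 hx
      obtain ⟨s₂, hs₂, h3, h4⟩ := exists_map_two huv
      obtain ⟨n, hn⟩ := M.surj ⟨s₂, hs₂⟩
      have hnd : (n : G) * M.δ u v * (n : G)⁻¹ = d := by rw [M.conj, hn]; simp [hd, h3, h4]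
      exact ⟨(n : G)⁻¹, inv_mem n.2, by rw [← hnd]; group⟩
    · rintro ⟨n, hn, rfl⟩
      rw [hd, M.conj ⟨n, hn⟩]
      exact M.δ_others (fun e => hne ((Equiv.injective _) e))
  have hcardC : Nat.card C = 2 ^ 11 * Nat.card K' := by
    rw [← L.card_A, ← Nat.card_prod]
    refine (Nat.card_eq_of_bijective (fun x : L.A × K' => (⟨x.1.1 * x.2.1,
      mul_mem (hAC x.1.2) x.2.2.2⟩ : C)) ⟨fun x y e => ?_, ?_⟩).symm
    · have e' : x.1.1 * x.2.1 = y.1.1 * y.2.1 := congrArg Subtype.val e
      have e2 : x.2.1 * y.2.1⁻¹ = 1 := eq_one_of_KA L hKN hsup hKA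
        (mul_mem x.2.2.1 (inv_mem y.2.2.1)) (by
          rw [show x.2.1 * y.2.1⁻¹ = x.1.1⁻¹ * (x.1.1 * x.2.1) * y.2.1⁻¹ by group, e',
            ← mul_assoc, mul_inv_cancel_right]
          exact mul_mem (inv_mem x.1.2) y.1.2)
      have e3 := mul_inv_eq_one.1 e2
      rw [e3, mul_left_inj] at e'
      exact Prod.ext (Subtype.ext e') (Subtype.ext e3)
    · rintro ⟨x, hx⟩
      obtain ⟨b, hb, k, hk, rfl⟩ := hdecomp x hx
      exact ⟨(⟨b, hb⟩, ⟨k, hk⟩), rfl⟩
  have hK'card : Nat.card K' = Nat.card (MulAut M22g) := by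
    rw [hcardC, (L.layer hG).card_normalizer, (L.layer hG).main.1] at hN276
    rw [JFourSeven.card_aut]
    omega
  have hbij : Function.Bijective (pairAut.comp φ) :=
    (Nat.bijective_iff_surjective_and_card _).2 ⟨pairAut_surjective.comp hφs, hK'card⟩
  -- back to `t`
  obtain ⟨g, hg⟩ := isConj_iff.1 hdc
  let f : G ≃* G := MulAut.conj g
  have hCt : C.map f.toMonoidHom = Subgroup.centralizer ({t} : Set G) := by
    rw [hC, JFourSeven.map_centralizer_equiv, Set.image_singleton]
    rw [show f d = t from hg]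
  refine ⟨L.A.map f.toMonoidHom, K'.map f.toMonoidHom, hCt ▸ Subgroup.map_mono hAC,
    hCt ▸ Subgroup.map_mono inf_le_right, ?_, isElementaryAbelian_of_sq ?_, ?_, ?_, ?_, ?_⟩
  · rw [← hCt, ← Subgroup.map_equiv_normalizer_eq L.A f]
    exact Subgroup.map_mono hCN
  · rintro _ ⟨b, hb, rfl⟩
    show f b * f b = 1
    rw [← map_mul, L.A_sq hb, map_one]
  · rw [Subgroup.card_map_of_injective (f := f.toMonoidHom) f.injective, L.card_A]
  · rw [← Subgroup.map_inf_eq K' L.A f.toMonoidHom f.injective, hbot, Subgroup.map_bot]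
  · rw [← Subgroup.map_sup, hsupC, hCt]
  · exact ⟨(K'.equivMapOfInjective f.toMonoidHom f.injective).symm.trans
      (MulEquiv.ofBijective _ hbij)⟩

end CfsgLib.JFourCent
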