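import Cfsg.Agent.JFourCent.Basic
import Cfsg.Agent.JFourCent.Classes
import Cfsg.Agent.JFourAmalgam.ToN

/-!
# An involution of the normaliser outside `A` is conjugate into the extraspecial subgroup
-/

set_option autoImplicit false
set_option linter.style.haveILetI false
set_option linter.unusedSectionVars false

namespace CfsgLib.JFourCent

open Cfsg CfsgLib.JFourType CfsgLib.JFourEleven Matrix
open CfsgLib.MTwentyThreeUnique.Gl11 (V)
open CfsgLib.MTwentyFourUnique.Gl11 (repD24)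

variable {G : Type*} [Group G] [Finite G] {z : G} (L : Setting z)

/-- Coordinates on `A` with the map of the normaliser onto M24. -/
structure Co where
  /-- the coordinates -/
  κ : L.A → V
  /-- the map onto M24 -/
  τ : Subgroup.normalizer (L.A : Set G) →* Cfsg.M24
  bij : Function.Bijective κ
  add : ∀ x y, κ (x * y) = κ x + κ y
  surj : Function.Surjective τ
  ker : ∀ m, τ m = 1 ↔ (m : G) ∈ L.A
  conj : ∀ (m : Subgroup.normalizer (L.A : Set G)) (x : L.A)
    (h : (m : G) * x * (m : G)⁻¹ ∈ L.A), repD24 (τ m) *ᵥ κ x = κ ⟨(m : G) * x * (m : G)⁻¹, h⟩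

theorem nonempty_co [IsSimpleGroup G] (hG : ¬ IsMulCommutative G) : Nonempty (Co L) := by
  obtain ⟨κ, τ, hb, ha, hs, hk, hc, -⟩ := CfsgLib.JFourAmalgam.exists_coord_hom (L.layer hG)
  exact ⟨⟨κ, τ, hb, ha, hs, hk, fun m x _ => hc m x⟩⟩

theorem conjA {n a : G} (hn : n ∈ Subgroup.normalizer (L.A : Set G)) (ha : a ∈ L.A) :
    n * a * n⁻¹ ∈ L.A := (Subgroup.mem_normalizer_iff.1 hn _).1 ha

theorem A_inv {a : G} (ha : a ∈ L.A) : a⁻¹ = a := inv_eq_of_mul_eq_one_right (L.A_sq ha)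

theorem E_le_N {e : G} (he : e ∈ L.E) : e ∈ Subgroup.normalizer (L.A : Set G) :=
  L.E_le_normalizer he

theorem card_inf : Nat.card (L.A ⊓ L.E : Subgroup G) = 128 := by
  rw [L.inf_eq, Subgroup.card_map_of_injective L.H.subtype_injective, L.D.card_Wt]

/-- The members of `A ⊓ E` commuting with a member of `E` form a subgroup of index at most two. -/
theorem card_comm {k : G} (hk : k ∈ L.E) :
    64 ≤ Nat.card {w : G // w ∈ L.A ⊓ L.E ∧ k * w = w * k} ∧
      (k ∉ L.A → Nat.card {w : G // w ∈ L.A ⊓ L.E ∧ k * w = w * k} ≤ 64) := by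
  classical
  set W := L.A ⊓ L.E with hW
  let S : Subgroup G := W ⊓ Subgroup.centralizer ({k} : Set G)
  have hS : ∀ w, w ∈ S ↔ w ∈ W ∧ k * w = w * k := fun w =>
    Subgroup.mem_inf.trans (and_congr_right' (Subgroup.mem_centralizer_singleton_iff.trans eq_comm))
  rw [show Nat.card {w : G // w ∈ W ∧ k * w = w * k} = Nat.card S from
    Nat.card_congr (Equiv.subtypeEquivRight fun w => (hS w).symm)]
  have hz : ∀ w ∈ L.E, z * w = w * z := fun w hw =>
    (Subgroup.mem_centralizer_singleton_iff.1 (L.E_le_H hw)).symm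
  constructor
  · by_cases hall : ∀ w ∈ W, k * w = w * k
    · rw [show S = W from le_antisymm inf_le_left fun w hw => (hS w).2 ⟨hw, hall w hw⟩, card_inf L]
      norm_num
    · push Not at hall
      obtain ⟨w₀, hw₀, hne⟩ := hall
      have hne' : k * w₀ = z * (w₀ * k) :=
        (E_comm L hk (Subgroup.mem_inf.1 hw₀).2).resolve_left hne
      let f : Bool × S → W := fun p => ⟨(bif p.1 then w₀ else 1) * p.2.1, mul_mem (by
        cases p.1 <;> [exact one_mem _; exact hw₀]) ((hS _).1 p.2.2).1⟩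
      have hf : Function.Surjective f := by
        rintro ⟨w, hw⟩
        rcases E_comm L hk (Subgroup.mem_inf.1 hw).2 with e | e
        · exact ⟨(false, ⟨w, (hS w).2 ⟨hw, e⟩⟩), Subtype.ext (one_mul w)⟩
        · refine ⟨(true, ⟨w₀⁻¹ * w, (hS _).2 ⟨mul_mem (inv_mem hw₀) hw, ?_⟩⟩),
            Subtype.ext (mul_inv_cancel_left w₀ w)⟩
          have h0 : k * w₀⁻¹ = z * (w₀⁻¹ * k) := by
            have : w₀⁻¹ = w₀ := A_inv L (Subgroup.mem_inf.1 hw₀).1
            rw [this, hne']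
          calc k * (w₀⁻¹ * w) = z * (w₀⁻¹ * (k * w)) := by rw [← mul_assoc, h0]; group
            _ = z * (w₀⁻¹ * z) * (w * k) := by rw [e]; group
            _ = (z * z) * (w₀⁻¹ * w) * k := by
              rw [← hz _ (inv_mem (Subgroup.mem_inf.1 hw₀).2)]; group
            _ = w₀⁻¹ * w * k := by rw [L.A_sq L.z_A, one_mul]
      have h := Nat.card_le_card_of_surjective f hf
      rw [Nat.card_prod, show Nat.card W = 128 from card_inf L,
        show Nat.card Bool = 2 by simp] at h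
      omega
  · intro hkA
    have hle : S ≤ W := inf_le_left
    have hne : S ≠ W := fun e => hkA (mem_A_of_comm L hk fun w hw => ((hS w).1 (e.symm ▸ hw)).2)
    have hd := Subgroup.card_dvd_of_le hle
    have h128 : Nat.card W = 128 := card_inf L
    rw [h128] at hd
    have hlt : Nat.card S ≠ 128 := fun e => hne (Subgroup.eq_of_le_of_card_ge hle (by rw [e, h128]))
    obtain ⟨i, hi, e⟩ := (Nat.dvd_prime_pow Nat.prime_two).1 (show Nat.card S ∣ 2 ^ 7 from hd)
    rw [e] at hlt ⊢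
    interval_cases i <;> omega

namespace Co

variable {L} (c : Co L)
include c

theorem orderOf_τ {m : Subgroup.normalizer (L.A : Set G)} (hm : (m : G) * m = 1)
    (hA : (m : G) ∉ L.A) : orderOf (c.τ m) = 2 := by
  haveI : Fact (Nat.Prime 2) := ⟨Nat.prime_two⟩
  refine orderOf_eq_prime ?_ fun e => hA ((c.ker m).1 e)
  rw [pow_two, ← map_mul, show m * m = 1 from Subtype.ext hm, map_one]

theorem mem_fixV {m : Subgroup.normalizer (L.A : Set G)} {a : L.A}
    (h : (m : G) * a = a * m) : c.κ a ∈ fixV (c.τ m) := by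
  show repD24 (c.τ m) *ᵥ c.κ a = c.κ a
  have e : (m : G) * a * (m : G)⁻¹ = a := by rw [h, mul_inv_cancel_right]
  rw [c.conj m a (e.symm ▸ a.2)]
  exact congrArg c.κ (Subtype.ext e)

/-- At most 128 elements of `A` commute with an involution of the normaliser outside it. -/
theorem card_cent_le {x : G} (hx : x ∈ Subgroup.normalizer (L.A : Set G)) (h2 : x * x = 1)
    (hA : x ∉ L.A) : Nat.card (L.A ⊓ Subgroup.centralizer ({x} : Set G) : Subgroup G) ≤ 128 := by
  set m : Subgroup.normalizer (L.A : Set G) := ⟨x, hx⟩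
  refine le_trans ?_ (mixed (c.orderOf_τ (m := m) h2 hA)).fixed
  exact Nat.card_le_card_of_injective
    (fun a : (L.A ⊓ Subgroup.centralizer ({x} : Set G) : Subgroup G) =>
      (⟨c.κ ⟨a.1, a.2.1⟩, c.mem_fixV (m := m)
        (Subgroup.mem_centralizer_singleton_iff.1 a.2.2).symm⟩ : fixV (c.τ m)))
    fun a b e => Subtype.ext (congrArg (fun y : L.A => (y : G))
      (c.bij.1 (congrArg Subtype.val e)))

/-- The element of `A` with the image vector lies in `E`. -/
theorem mem_E_of_imV {k : G} (hkE : k ∈ L.E) {a : L.A}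
    (h : c.κ a ∈ imV (c.τ ⟨k, E_le_N L hkE⟩)) : (a : G) ∈ L.E := by
  obtain ⟨u, e⟩ := h
  obtain ⟨b, rfl⟩ := c.bij.2 u
  set m : Subgroup.normalizer (L.A : Set G) := ⟨k, E_le_N L hkE⟩
  have hb := conjA L m.2 b.2
  simp only [c.conj m b hb, ← c.add] at e
  rw [← congrArg Subtype.val (c.bij.1 e)]
  show k * b * k⁻¹ * (b : G) ∈ L.E
  nth_rewrite 2 [← A_inv L b.2]
  exact comm_A_E L b.2 hkE

end Co

/-- An involution of the normaliser outside `A` is conjugate to a member of `E`. -/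
theorem exists_conj_E [IsSimpleGroup G] (hG : ¬ IsMulCommutative G) {x : G}
    (hx : x ∈ Subgroup.normalizer (L.A : Set G)) (h2 : x * x = 1) (hA : x ∉ L.A) :
    ∃ g : G, g * x * g⁻¹ ∈ L.E := by
  classical
  obtain ⟨c⟩ := nonempty_co L hG
  obtain ⟨K, hKN, hKA, hsup, -⟩ := L.exists_split hG
  set N := Subgroup.normalizer (L.A : Set G) with hN
  -- the image of `E` meets the class of the image of `x`
  let ι : L.E →* N := Subgroup.inclusion L.E_le_normalizer
  let U : Subgroup Cfsg.M24 := (c.τ.comp ι).range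
  have hU : Nat.card U = 64 := by
    have h := Subgroup.card_eq_card_quotient_mul_card_subgroup (c.τ.comp ι).ker
    rw [Nat.card_congr (QuotientGroup.quotientKerEquivRange _).toEquiv, L.card_E,
      show (c.τ.comp ι).ker = (L.A ⊓ L.E).subgroupOf L.E from Subgroup.ext fun e => by
        rw [MonoidHom.mem_ker, Subgroup.mem_subgroupOf, Subgroup.mem_inf, MonoidHom.comp_apply, c.ker]
        exact ⟨fun h => ⟨h, e.2⟩, fun h => h.1⟩,
      Nat.card_congr (Subgroup.subgroupOfEquivOfLe inf_le_right).toEquiv, card_inf L] at h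
    show Nat.card (c.τ.comp ι).range = 64
    omega
  have hU2 : ∀ u ∈ U, u * u = 1 := by
    rintro _ ⟨e, rfl⟩
    rw [← map_mul, MonoidHom.comp_apply, c.ker]
    rcases E_sq L e.2 with h | h
    · show (e : G) * e ∈ L.A
      rw [h]; exact one_mem _
    · show (e : G) * e ∈ L.A
      rw [h]; exact L.z_A
  set m : N := ⟨x, hx⟩
  obtain ⟨_, ⟨e, rfl⟩, h, he⟩ := exists_conj_mem hU hU2 (c.orderOf_τ (m := m) h2 hA)
  obtain ⟨g₁, rfl⟩ := c.surj h
  set m₁ : N := g₁⁻¹ * m * g₁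
  have hm₁ : c.τ m₁ = c.τ (ι e) := by
    rw [map_mul, map_mul, map_inv, ← he, MonoidHom.comp_apply]
    group
  obtain ⟨a, ha, k, hk, hak⟩ := decomp L hKN hsup m₁.2
  have hkN : k ∈ N := hKN hk
  have hτk : c.τ ⟨k, hkN⟩ = c.τ (ι e) := by
    rw [← hm₁, show m₁ = ⟨a, Subgroup.le_normalizer ha⟩ * ⟨k, hkN⟩ from Subtype.ext hak.symm,
      map_mul, (c.ker ⟨a, _⟩).2 ha, one_mul]
  have hek : (e : G) * k⁻¹ ∈ L.A := by
    have := (c.ker (ι e * ⟨k, hkN⟩⁻¹)).1 (by rw [map_mul, map_inv, hτk, mul_inv_cancel])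
    exact this
  have hkE : k ∈ L.E := mem_E_of_mul L hKN hsup hKA hek hk (by
    rw [inv_mul_cancel_right]; exact e.2)
  have hm2 : (m₁ : G) * m₁ = 1 := by
    show (g₁ : G)⁻¹ * x * g₁ * ((g₁ : G)⁻¹ * x * g₁) = 1
    rw [show (g₁ : G)⁻¹ * x * g₁ * ((g₁ : G)⁻¹ * x * g₁) = (g₁ : G)⁻¹ * (x * x) * g₁ by group, h2]
    group
  rw [← hak] at hm2
  have hk2 : k * k = 1 := eq_one_of_KA L hKN hsup hKA (mul_mem hk hk) (by
    have h1 := conjA L hkN ha
    rw [show k * k = (a * (k * a * k⁻¹))⁻¹ * (a * k * (a * k)) by group, hm2, mul_one]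
    exact inv_mem (mul_mem ha h1))
  have hcomm : k * a = a * k := by
    have h1 : a * k * (a * k) = 1 := hm2
    have h2' : a * (k * a * k) = 1 := by rw [← h1]; group
    have h3 := eq_inv_of_mul_eq_one_right h2'
    rw [A_inv L ha] at h3
    calc k * a = k * a * (k * k) := by rw [hk2, mul_one]
      _ = a * k := by rw [← mul_assoc, h3]
  have hkA : k ∉ L.A := fun hk' => by
    have h1 := (c.ker ⟨k, hkN⟩).2 hk'
    rw [hτk, ← hm₁, map_mul, map_mul, map_inv] at h1
    refine hA ((c.ker m).1 ?_)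
    rw [mul_assoc, inv_mul_eq_iff_eq_mul, mul_one] at h1
    exact mul_eq_right.1 h1
  -- conjugate the part in `A` into `E`
  obtain ⟨g₂, hg₂⟩ : ∃ g₂ : G, g₂ * (a * k) * g₂⁻¹ ∈ L.E := by
    by_cases haE : a ∈ L.E
    · exact ⟨1, by simpa using mul_mem haE hkE⟩
    set mk : N := ⟨k, E_le_N L hkE⟩ with hmk
    have hmix := mixed (c.orderOf_τ (m := mk) hk2 hkA)
    have hv := c.mem_fixV (m := mk) (a := ⟨a, ha⟩) hcomm
    have hv' : c.κ ⟨a, ha⟩ ∉ imV (c.τ mk) := fun h => haE (c.mem_E_of_imV hkE h)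
    obtain ⟨w, hw, hwk, hw'⟩ : ∃ w, ∃ hw : w ∈ L.A ⊓ L.E, k * w = w * k ∧
        c.κ ⟨w, hw.1⟩ ∉ imV (c.τ mk) := by
      by_contra! hcon
      have hle := Nat.card_le_card_of_injective
        (fun w : {w : G // w ∈ L.A ⊓ L.E ∧ k * w = w * k} =>
          (⟨c.κ ⟨w.1, w.2.1.1⟩, hcon w.1 w.2.1 w.2.2⟩ : imV (c.τ mk)))
        fun w w' e => Subtype.ext (congrArg (fun y : L.A => (y : G))
          (c.bij.1 (congrArg Subtype.val e)))
      have h1 := (card_comm L hkE).1
      have h2 : Nat.card {v // v ∈ imV (c.τ mk)} ≤ 32 := hmix.image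
      omega
    obtain ⟨σ, hσ, hσi⟩ :=
      hmix.trans _ hv _ (c.mem_fixV (m := mk) (a := ⟨w, hw.1⟩) hwk) hv' hw'
    obtain ⟨n, rfl⟩ := c.surj σ
    obtain ⟨b, hb, k', hk', hbk⟩ := decomp L hKN hsup n.2
    set mk' : N := ⟨k', hKN hk'⟩
    have hτ' : c.τ mk' = c.τ n := by
      rw [show n = ⟨b, Subgroup.le_normalizer hb⟩ * mk' from Subtype.ext hbk.symm, map_mul,
        (c.ker ⟨b, _⟩).2 hb, one_mul]
    have hcK : k' * k * k'⁻¹ * k⁻¹ = 1 := eq_one_of_KA L hKN hsup hKA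
      (mul_mem (mul_mem (mul_mem hk' hk) (inv_mem hk')) (inv_mem hk))
      ((c.ker (mk' * mk * mk'⁻¹ * mk⁻¹)).1 (by
        rw [map_mul, map_mul, map_mul, map_inv, map_inv, hτ', hσ]; group))
    have hca : k' * a * k'⁻¹ ∈ L.A := conjA L (hKN hk') ha
    rw [← hτ', c.conj mk' ⟨a, ha⟩ hca, ← c.add] at hσi
    have hE := c.mem_E_of_imV hkE hσi
    refine ⟨k', ?_⟩
    rw [show k' * (a * k) * k'⁻¹ =
      k' * a * k'⁻¹ * w * (w⁻¹ * (k' * k * k'⁻¹ * k⁻¹) * k) by group, hcK]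
    exact mul_mem hE (mul_mem (mul_mem (inv_mem hw.2) (one_mem _)) hkE)
  refine ⟨g₂ * (g₁ : G)⁻¹, ?_⟩
  rw [show g₂ * (g₁ : G)⁻¹ * x * (g₂ * (g₁ : G)⁻¹)⁻¹ = g₂ * ((g₁ : G)⁻¹ * x * g₁) * g₂⁻¹ by group]
  rw [show (g₁ : G)⁻¹ * x * g₁ = a * k from hak.symm]
  exact hg₂

end CfsgLib.JFourCent
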