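import Cfsg.Agent.JFourCent.StageOne
import Cfsg.Agent.JFourCent.Fixed
import Cfsg.Agent.JFourSeven.SevenAux
import Cfsg.Agent.M24Classes.Classes

/-!
# An involution of the extraspecial subgroup is conjugate to the central one or into `A`

An involution of `E` conjugate neither to `z` nor into `A` would have an orbit of length divisible by
`16 · 231` among the at most 4158 non-central involutions of `E`, next to the two orbits of those in
`A ⊓ E`, each of length divisible by 462.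
-/

set_option autoImplicit false
set_option linter.style.haveILetI false
set_option linter.unusedSectionVars false

namespace CfsgLib.JFourCent

open Cfsg CfsgLib.JFourType CfsgLib.JFourEleven

variable {G : Type*} [Group G] [Finite G] {z : G} (L : Setting z)

theorem card_H : Nat.card L.H = 2 ^ 21 * 10395 := by
  have h := Subgroup.card_eq_card_quotient_mul_card_subgroup L.C.pr.ker
  rw [Nat.card_congr (QuotientGroup.quotientKerEquivRange L.C.pr).toEquiv,
    MonoidHom.range_eq_top.2 L.C.surj, Subgroup.card_top, JFourSeven.card_aut, L.C.cardKer] at h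
  rw [h]
  norm_num

/-- The conjugates under the centralizer of the involution. -/
def orb (e : G) : Set G := {y | ∃ h ∈ L.H, h * e * h⁻¹ = y}

theorem orb_spec {e : G} (he : e ∈ L.E) (he2 : e * e = 1) (h1 : e ≠ 1) (hz : e ≠ z) {y : G}
    (hy : y ∈ orb L e) : y ∈ L.E ∧ y * y = 1 ∧ y ≠ 1 ∧ y ≠ z := by
  obtain ⟨h, hh, rfl⟩ := hy
  refine ⟨conj_E L hh he, ?_, fun e' => h1 (conj_eq_one_iff.1 e'), fun e' => hz ?_⟩
  · rw [show h * e * h⁻¹ * (h * e * h⁻¹) = h * (e * e) * h⁻¹ by group, he2, mul_one, mul_inv_cancel]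
  · have hc : h * z = z * h := Subgroup.mem_centralizer_singleton_iff.1 hh
    rw [show e = h⁻¹ * (h * e * h⁻¹) * h by group, e', mul_assoc, ← hc, inv_mul_cancel_left]

theorem orb_conj {e y g : G} (hy : y ∈ orb L e) (hg : g ∈ L.H) : g * y * g⁻¹ ∈ orb L e := by
  obtain ⟨h, hh, rfl⟩ := hy
  exact ⟨g * h, mul_mem hg hh, by group⟩

theorem mem_orb_self (e : G) : e ∈ orb L e := ⟨1, one_mem _, by group⟩

theorem exists_flip {e : G} (he : e ∈ L.E) (h1 : e ≠ 1) (hz : e ≠ z) :
    ∃ f ∈ L.E, f * e * f⁻¹ = e * z := by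
  by_contra! hno
  obtain ⟨b, hb, rfl⟩ := he
  have hall : ∀ f ∈ L.C.E, b * f = f * b := fun f hf => by
    rcases L.C.comm b hb f hf with h | h
    · exact h
    · refine absurd ?_ (hno f ⟨f, hf, rfl⟩)
      have h2 : f * b * f⁻¹ = b * L.C.z := by
        rw [mul_inv_eq_iff_eq_mul, mul_assoc, ← L.C.central f, ← mul_assoc, h, ← L.C.central (f * b),
          mul_assoc, L.C.central, ← mul_assoc (f * b), mul_assoc, L.C.z_sq, mul_one]
      have := congrArg Subtype.val h2
      rw [Subgroup.coe_mul, Subgroup.coe_mul, Subgroup.coe_mul, L.Cz] at this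
      exact this
  rcases L.C.centE b hall with e | e
  · exact h1 (by rw [e]; rfl)
  · exact hz (by rw [e]; exact L.Cz)

/-- An orbit of non-central involutions of `E` has length divisible by `462`. -/
theorem dvd_orb {e : G} (he : e ∈ L.E) (he2 : e * e = 1) (h1 : e ≠ 1) (hz : e ≠ z) :
    462 ∣ Nat.card (orb L e) := by
  have hcl : ∀ {g : G}, g ∈ L.H → ∀ y ∈ orb L e, g * y * g⁻¹ ∈ orb L e :=
    fun hg y hy => orb_conj L hy hg
  have h3 : 3 ∣ Nat.card (orb L e) := by
    refine LargeFischerJ.dvd_of_free Nat.prime_three (g := (L.C.x : G))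
      (by rw [← SubmonoidClass.coe_pow, L.C.pow_three L.C.x_mem]; rfl) (hcl L.C.x.2) fun y hy h => ?_
    obtain ⟨hyE, -, hy1, hyz⟩ := orb_spec L he he2 h1 hz hy
    obtain ⟨b, hb, rfl⟩ := hyE
    have hxb : L.C.x * b * L.C.x⁻¹ = b := Subtype.ext h
    rcases (L.D.eq_zero b hb).1 (L.D.x_fixed (by rw [L.D.ρ_ψ _ _ hb, hxb])) with rfl | rfl
    · exact hy1 rfl
    · exact hyz L.Cz
  have h7 : 7 ∣ Nat.card (orb L e) := by
    obtain ⟨c, hc, hc7, hfree⟩ := exists_seven L
    refine LargeFischerJ.dvd_of_free (by norm_num) hc7 (hcl hc) fun y hy h => ?_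
    obtain ⟨hyE, -, hy1, hyz⟩ := orb_spec L he he2 h1 hz hy
    exact (hfree y hyE h).elim hy1 hyz
  have h11 : 11 ∣ Nat.card (orb L e) := by
    obtain ⟨c, hc, hc11, hfree⟩ := exists_eleven L
    refine LargeFischerJ.dvd_of_free (by norm_num) hc11 (hcl hc) fun y hy h => ?_
    obtain ⟨hyE, hy2, hy1, hyz⟩ := orb_spec L he he2 h1 hz hy
    exact (hfree y hyE hy2 h).elim hy1 hyz
  have h2 : 2 ∣ Nat.card (orb L e) := by
    have hS : ∀ y ∈ orb L e, y * z ∈ orb L e := fun y hy => by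
      obtain ⟨hyE, -, hy1, hyz⟩ := orb_spec L he he2 h1 hz hy
      obtain ⟨f, hf, h⟩ := exists_flip L hyE hy1 hyz
      exact h ▸ orb_conj L hy (L.E_le_H hf)
    have h := JFourEleven.card_modEq_fixed Nat.prime_two (fun y => y * z) (orb L e) hS fun y _ => by
      show y * z * z = y
      rw [mul_assoc, L.A_sq L.z_A, mul_one]
    rw [show Nat.card {v | v ∈ orb L e ∧ v * z = v} = 0 by
      rw [show {v | v ∈ orb L e ∧ v * z = v} = (∅ : Set G) from
        Set.eq_empty_iff_forall_notMem.2 fun v hv => L.z_ne (mul_eq_left.1 hv.2)]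
      simp] at h
    exact Nat.dvd_of_mod_eq_zero h
  omega

section sylow

variable [IsSimpleGroup G] (hG : ¬ IsMulCommutative G)
include hG

/-- A 2-subgroup commuting with an involution not conjugate into `A` has order at most `2 ^ 17`. -/
theorem card_pGroup_le {x : G} (h2 : x * x = 1) (hnA : ∀ g : G, g * x * g⁻¹ ∉ L.A)
    {P : Subgroup G} (hP : IsPGroup 2 P) (hxP : x ∈ P) (hc : ∀ y ∈ P, y * x = x * y) :
    Nat.card P ≤ 2 ^ 17 := by
  haveI : Fact (Nat.Prime 2) := ⟨Nat.prime_two⟩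
  obtain ⟨c⟩ := nonempty_co L hG
  obtain ⟨g, hg⟩ := exists_conj_normalizer L hP
  set N := Subgroup.normalizer (L.A : Set G) with hN
  let f : P →* N := ((MulAut.conj g).toMonoidHom.comp P.subtype).codRestrict N fun y => hg y y.2
  have hf : Function.Injective f := fun a b e =>
    Subtype.ext ((MulAut.conj g).injective (congrArg (fun y : N => (y : G)) e))
  set x' := g * x * g⁻¹ with hx'
  have hx'2 : x' * x' = 1 := by
    rw [hx', show g * x * g⁻¹ * (g * x * g⁻¹) = g * (x * x) * g⁻¹ by group, h2]; group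
  let φ : P →* Cfsg.M24 := c.τ.comp f
  have hk : Nat.card φ.ker ≤ 128 := by
    refine le_trans ?_ (c.card_cent_le (hg x hxP) hx'2 (hnA g))
    refine Nat.card_le_card_of_injective
      (fun y => (⟨(f y.1 : G), (c.ker _).1 y.2, Subgroup.mem_centralizer_singleton_iff.2 ?_⟩ :
        (L.A ⊓ Subgroup.centralizer ({x'} : Set G) : Subgroup G)))
      fun a b e => Subtype.ext (hf (Subtype.ext
        (congrArg (fun y : (L.A ⊓ Subgroup.centralizer ({x'} : Set G) : Subgroup G) => (y : G)) e)))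
    show g * y.1.1 * g⁻¹ * (g * x * g⁻¹) = g * x * g⁻¹ * (g * y.1.1 * g⁻¹)
    rw [show g * y.1.1 * g⁻¹ * (g * x * g⁻¹) = g * (y.1.1 * x) * g⁻¹ by group, hc _ y.1.2]
    group
  have hr : Nat.card φ.range ≤ 2 ^ 10 := by
    obtain ⟨i, hi⟩ := (IsPGroup.iff_card.1 (hP.of_surjective φ.rangeRestrict φ.rangeRestrict_surjective))
    rw [hi]
    refine Nat.pow_le_pow_right (by norm_num) ?_
    by_contra hcon
    have hd := Subgroup.card_subgroup_dvd_card φ.range
    rw [hi, Mathieu.card_M24] at hd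
    exact absurd ((Nat.pow_dvd_pow 2 (Nat.lt_of_not_le hcon)).trans hd) (by norm_num)
  rw [Subgroup.card_eq_card_quotient_mul_card_subgroup φ.ker,
    Nat.card_congr (QuotientGroup.quotientKerEquivRange φ).toEquiv]
  calc Nat.card φ.range * Nat.card φ.ker ≤ 2 ^ 10 * 128 := Nat.mul_le_mul hr hk
    _ = 2 ^ 17 := by norm_num

/-- The orbit of an involution of `H` not conjugate into `A` has length divisible by sixteen. -/
theorem sixteen_dvd {x : G} (hxH : x ∈ L.H) (h2 : x * x = 1) (hnA : ∀ g : G, g * x * g⁻¹ ∉ L.A) :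
    16 ∣ Nat.card (orb L x) := by
  haveI : Fact (Nat.Prime 2) := ⟨Nat.prime_two⟩
  set Cx : Subgroup G := L.H ⊓ Subgroup.centralizer ({x} : Set G) with hCx
  have hmem : ∀ y ∈ Cx, y * x = x * y := fun y hy =>
    Subgroup.mem_centralizer_singleton_iff.1 hy.2
  obtain ⟨P⟩ : Nonempty (Sylow 2 Cx) := inferInstance
  set xC : Cx := ⟨x, hxH, Subgroup.mem_centralizer_singleton_iff.2 rfl⟩ with hxC
  haveI : (Subgroup.zpowers xC).Normal := ⟨fun y hy g => by
    obtain ⟨j, rfl⟩ := Subgroup.mem_zpowers_iff.1 hy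
    have hcm : Commute g (xC ^ j) :=
      (show Commute g xC from Subtype.ext (hmem g g.2)).zpow_right j
    rw [hcm.eq, mul_inv_cancel_right]
    exact Subgroup.mem_zpowers_iff.2 ⟨j, rfl⟩⟩
  have hz2 : IsPGroup 2 (Subgroup.zpowers xC) := fun ⟨y, hy⟩ => ⟨1, Subtype.ext (by
    obtain ⟨j, rfl⟩ := Subgroup.mem_zpowers_iff.1 hy
    show (xC ^ j) ^ (2 ^ 1) = 1
    rw [pow_one, ← zpow_natCast, ← zpow_mul, mul_comm j, zpow_mul, zpow_natCast,
      show xC ^ 2 = 1 from Subtype.ext (by rw [pow_two]; exact h2), one_zpow])⟩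
  have hxP : xC ∈ (P : Subgroup Cx) := by
    have h := P.3 (hz2.to_sup_of_normal_left P.2) le_sup_right
    exact h ▸ Subgroup.mem_sup_left (Subgroup.mem_zpowers xC)
  have hP := card_pGroup_le L hG h2 hnA (P := (P : Subgroup Cx).map Cx.subtype) (P.2.map _)
    ⟨xC, hxP, rfl⟩ (by rintro _ ⟨y, -, rfl⟩; exact hmem y y.2)
  rw [Subgroup.card_map_of_injective Cx.subtype_injective] at hP
  have hnd := P.not_dvd_index
  have hcard := Subgroup.card_mul_index (P : Subgroup Cx)
  obtain ⟨i, hi⟩ := IsPGroup.iff_card.1 P.2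
  rw [hi] at hP hcard
  have hi17 : i ≤ 17 := (Nat.pow_le_pow_iff_right (by norm_num)).1 hP
  have horb := JFourSeven.ncard_orbit_mul_card L.H x
  rw [← Nat.card_coe_set_eq, ← hCx, ← hcard, card_H L] at horb
  set m := (P : Subgroup Cx).index
  set o := Nat.card (orb L x) with ho
  have horb' : o * (2 ^ i * m) = 2 ^ 21 * 10395 := horb
  have e : o * m = 2 ^ (21 - i) * 10395 := by
    have h21 : (2 : ℕ) ^ 21 = 2 ^ i * 2 ^ (21 - i) := by rw [← pow_add]; congr 1; omega
    rw [h21] at horb'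
    refine Nat.eq_of_mul_eq_mul_left (pow_pos (show 0 < 2 by norm_num) i) ?_
    linarith
  have hcop : Nat.Coprime (2 ^ 4) m :=
    Nat.Coprime.pow_left 4 ((Nat.prime_two.coprime_iff_not_dvd).2 hnd)
  refine (show (2 : ℕ) ^ 4 = 16 by norm_num) ▸ hcop.dvd_of_dvd_mul_right (e ▸ ?_)
  exact (Nat.pow_dvd_pow 2 (by omega : 4 ≤ 21 - i)).trans (dvd_mul_right _ _)

/-- There are at most 4158 non-central involutions in `E`. -/
theorem card_invol_le :
    Nat.card {y : G | y ∈ L.E ∧ y * y = 1 ∧ y ≠ 1 ∧ y ≠ z} ≤ 4158 := by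
  classical
  obtain ⟨K, hKN, hKA, hsup, -⟩ := L.exists_split hG
  set W := L.A ⊓ L.E with hW
  let T : Subgroup G := K ⊓ L.E
  have hT : Nat.card T ≤ 64 := by
    have h := Nat.card_le_card_of_injective
      (fun p : W × T => (⟨p.1.1 * p.2.1, mul_mem p.1.2.2 p.2.2.2⟩ : L.E)) fun p q e => by
        have e' : p.1.1 * p.2.1 = q.1.1 * q.2.1 := congrArg Subtype.val e
        have e2 : p.2.1 * q.2.1⁻¹ = 1 := eq_one_of_KA L hKN hsup hKA
          (mul_mem p.2.2.1 (inv_mem q.2.2.1))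
          (by
            rw [show p.2.1 * q.2.1⁻¹ = p.1.1⁻¹ * (p.1.1 * p.2.1) * q.2.1⁻¹ by group, e',
              ← mul_assoc, mul_inv_cancel_right]
            exact mul_mem (inv_mem p.1.2.1) q.1.2.1)
        have e3 := mul_inv_eq_one.1 e2
        rw [e3, mul_left_inj] at e'
        exact Prod.ext (Subtype.ext e') (Subtype.ext e3)
    rw [Nat.card_prod, show Nat.card W = 128 from card_inf L, L.card_E] at h
    omega
  let S1 : Set G := {y | y ∈ L.E ∧ y * y = 1}
  let Sg := Σ k : T, {w : G // w ∈ W ∧ (k : G) * w = w * k}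
  let f : Sg → G := fun p => p.2.1 * p.1.1
  have hsub : S1 ⊆ Set.range f := by
    rintro y ⟨hy, hy2⟩
    obtain ⟨a, ha, k, hk, rfl⟩ := decomp L hKN hsup (L.E_le_normalizer hy)
    have hkE := mem_E_of_mul L hKN hsup hKA ha hk hy
    have haE : a ∈ L.E := by
      rw [show a = a * k * k⁻¹ by group]; exact mul_mem hy (inv_mem hkE)
    have hk2 : k * k = 1 := eq_one_of_KA L hKN hsup hKA (mul_mem hk hk) (by
      rcases E_sq L hkE with e | e <;> rw [e]
      exacts [one_mem _, L.z_A])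
    refine ⟨⟨⟨k, hk, hkE⟩, a, ⟨ha, haE⟩, ?_⟩, rfl⟩
    have h2' : a * (k * a * k) = 1 := by rw [← hy2]; group
    have h3 := eq_inv_of_mul_eq_one_right h2'
    rw [A_inv L ha] at h3
    calc k * a = k * a * (k * k) := by rw [hk2, mul_one]
      _ = a * k := by rw [← mul_assoc, h3]
  have hS1 : Nat.card S1 ≤ 128 + 63 * 64 := by
    haveI : Fintype T := Fintype.ofFinite T
    calc Nat.card S1 ≤ Nat.card (Set.range f) := Nat.card_mono (Set.toFinite _) hsub
      _ ≤ Nat.card Sg := Finite.card_range_le f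
      _ = ∑ k : T, Nat.card {w : G // w ∈ W ∧ (k : G) * w = w * k} := Nat.card_sigma
      _ ≤ 128 + 63 * 64 := by
        rw [← Finset.add_sum_erase _ _ (Finset.mem_univ (1 : T))]
        refine Nat.add_le_add ?_ ?_
        · rw [← card_inf L]
          exact Nat.card_le_card_of_injective
            (fun w : {w : G // w ∈ W ∧ ((1 : T) : G) * w = w * ((1 : T) : G)} => (⟨w.1, w.2.1⟩ : W))
            fun a b e => Subtype.ext (congrArg (fun y : W => (y : G)) e)
        · refine (Finset.sum_le_card_nsmul _ _ 64 fun k hk =>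
            (card_comm L k.2.2).2 fun hkA => Finset.ne_of_mem_erase hk (Subtype.ext
              (eq_one_of_KA L hKN hsup hKA k.2.1 hkA))).trans ?_
          rw [Finset.card_erase_of_mem (Finset.mem_univ _), Finset.card_univ,
            ← Nat.card_eq_fintype_card, smul_eq_mul]
          exact Nat.mul_le_mul_right 64 (by omega)
  have hins : insert (1 : G) (insert z {y : G | y ∈ L.E ∧ y * y = 1 ∧ y ≠ 1 ∧ y ≠ z}) ⊆ S1 := by
    rintro y (rfl | rfl | hy)
    exacts [⟨one_mem _, one_mul 1⟩, ⟨L.z_E, L.A_sq L.z_A⟩, ⟨hy.1, hy.2.1⟩]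
  have h := Set.ncard_le_ncard hins
  rw [Set.ncard_insert_of_notMem (by
      rintro (h | h)
      exacts [L.z_ne h.symm, h.2.2.1 rfl]),
    Set.ncard_insert_of_notMem (fun h => h.2.2.2 rfl), ← Nat.card_coe_set_eq,
    ← Nat.card_coe_set_eq] at h
  omega

/-- An involution of `E` is conjugate to `z` or into `A`. -/
theorem exists_conj_A {x : G} (hx : x ∈ L.E) (h2 : x * x = 1) (h1 : x ≠ 1) (hnz : ¬ IsConj z x) :
    ∃ g : G, g * x * g⁻¹ ∈ L.A := by
  classical
  by_contra! hnA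
  have hxz : x ≠ z := fun e => hnz (e ▸ IsConj.refl z)
  obtain ⟨az, haz, hazc, hazne⟩ := L.exists_conj_inner hG
  obtain ⟨at', hat, hat1, hatc⟩ : ∃ a ∈ L.A ⊓ L.E, a ≠ 1 ∧ ¬ IsConj z a := by
    by_contra! hcon
    have hle : ((L.A ⊓ L.E : Subgroup G) : Set G) ⊆
        insert 1 {a | a ∈ L.A ⊓ L.E ∧ IsConj z a} := fun a ha => by
      by_cases e : a = 1
      exacts [Or.inl e, Or.inr ⟨ha, hcon a ha e⟩]
    have h := (Set.ncard_le_ncard hle).trans (Set.ncard_insert_le _ _)
    rw [← Nat.card_coe_set_eq, ← Nat.card_coe_set_eq, SetLike.coe_sort_coe, card_inf L,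
      show Nat.card {a | a ∈ L.A ⊓ L.E ∧ IsConj z a} = 91 from (L.layer hG).count] at h
    omega
  have haz1 : az ≠ 1 := fun e => by
    obtain ⟨c, hc⟩ := isConj_iff.1 hazc
    exact L.z_ne (conj_eq_one_iff.1 (hc.trans e))
  have hatz : at' ≠ z := fun e => hatc (e ▸ IsConj.refl z)
  set S0 : Set G := {y : G | y ∈ L.E ∧ y * y = 1 ∧ y ≠ 1 ∧ y ≠ z} with hS0
  have hsub : ∀ {e : G}, e ∈ L.E → e * e = 1 → e ≠ 1 → e ≠ z → orb L e ⊆ S0 :=
    fun a b c d _ hy => orb_spec L a b c d hy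
  have hcz : ∀ {e y : G}, y ∈ orb L e → (IsConj z y ↔ IsConj z e) := by
    rintro e y ⟨h, -, rfl⟩
    have he : IsConj e (h * e * h⁻¹) := isConj_iff.2 ⟨h, rfl⟩
    exact ⟨fun k => k.trans he.symm, fun k => k.trans he⟩
  have d1 : Disjoint (orb L x) (orb L az) :=
    Set.disjoint_left.2 fun y hy hy' => hnz ((hcz hy).1 ((hcz hy').2 hazc))
  have d2 : Disjoint (orb L az) (orb L at') :=
    Set.disjoint_left.2 fun y hy hy' => hatc ((hcz hy').1 ((hcz hy).2 hazc))
  have d3 : Disjoint (orb L x) (orb L at') := by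
    refine Set.disjoint_left.2 fun y hy hy' => ?_
    obtain ⟨h, -, rfl⟩ := hy
    obtain ⟨k, -, e⟩ := hy'
    refine hnA (k⁻¹ * h) ?_
    rw [show k⁻¹ * h * x * (k⁻¹ * h)⁻¹ = k⁻¹ * (h * x * h⁻¹) * k by group, ← e,
      show k⁻¹ * (k * at' * k⁻¹) * k = at' by group]
    exact hat.1
  have hU : orb L x ∪ (orb L az ∪ orb L at') ⊆ S0 := by
    refine Set.union_subset (hsub hx h2 h1 hxz) (Set.union_subset ?_ ?_)
    exacts [hsub haz.2 (L.A_sq haz.1) haz1 hazne, hsub hat.2 (L.A_sq hat.1) hat1 hatz]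
  have h := Set.ncard_le_ncard hU
  rw [Set.ncard_union_eq (Set.disjoint_union_right.2 ⟨d1, d3⟩), Set.ncard_union_eq d2,
    ← Nat.card_coe_set_eq, ← Nat.card_coe_set_eq, ← Nat.card_coe_set_eq, ← Nat.card_coe_set_eq] at h
  have hb := card_invol_le L hG
  rw [← hS0] at hb
  have e1 := dvd_orb L hx h2 h1 hxz
  have e1' := sixteen_dvd L hG (L.E_le_H hx) h2 hnA
  have e2 := dvd_orb L haz.2 (L.A_sq haz.1) haz1 hazne
  have e3 := dvd_orb L hat.2 (L.A_sq hat.1) hat1 hatz
  have p1 : 0 < Nat.card (orb L x) := by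
    haveI : Nonempty (orb L x) := ⟨⟨x, mem_orb_self L x⟩⟩
    exact Nat.card_pos
  have p2 : 0 < Nat.card (orb L az) := by
    haveI : Nonempty (orb L az) := ⟨⟨az, mem_orb_self L az⟩⟩
    exact Nat.card_pos
  have p3 : 0 < Nat.card (orb L at') := by
    haveI : Nonempty (orb L at') := ⟨⟨at', mem_orb_self L at'⟩⟩
    exact Nat.card_pos
  omega

end sylow

end CfsgLib.JFourCent
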